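import Groth.Prelude.Def_QCohCat
import Groth.Agent.Lib.WayOut.Scheme
import Groth.Agent.Lib.QCoh.Closure
import Mathlib.CategoryTheory.Abelian.Subcategory
import Mathlib.Algebra.Homology.ShortComplex.ExactFunctor

/-!
# The inclusion of quasi-coherent modules is exact
-/

set_option autoImplicit false
set_option linter.style.haveILetI false

universe u

open CategoryTheory Limits AlgebraicGeometry

namespace Groth.Agent.Lib.BettiExact.QCohInc

variable (X : Scheme.{u})

instance iso : (QCohCat.isQCoh X).IsClosedUnderIsomorphisms :=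
  inferInstanceAs (WayOut.Scheme.qc X).IsClosedUnderIsomorphisms

instance zero : (QCohCat.isQCoh X).ContainsZero :=
  inferInstanceAs (WayOut.Scheme.qc X).ContainsZero

instance kernels : (QCohCat.isQCoh X).IsClosedUnderKernels where
  kernels_le := by
    rintro _ ⟨f, k, hk, hf⟩
    haveI : SheafOfModules.IsQuasicoherent (R := X.ringCatSheaf) _ := hf.1
    haveI : SheafOfModules.IsQuasicoherent (R := X.ringCatSheaf) _ := hf.2
    exact (QCohCat.isQCoh X).prop_of_iso ((kernelIsKernel f).conePointUniqueUpToIso hk)
      (QCoh.Closure.isQCoh_kernel f)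

instance cokernels : (QCohCat.isQCoh X).IsClosedUnderCokernels where
  cokernels_le := by
    rintro _ ⟨f, k, hk, hf⟩
    haveI : SheafOfModules.IsQuasicoherent (R := X.ringCatSheaf) _ := hf.1
    haveI : SheafOfModules.IsQuasicoherent (R := X.ringCatSheaf) _ := hf.2
    exact (QCohCat.isQCoh X).prop_of_iso ((cokernelIsCokernel f).coconePointUniqueUpToIso hk)
      (QCoh.Closure.isQCoh_cokernel f)

instance binary : (QCohCat.isQCoh X).IsClosedUnderBinaryProducts := by
  refine .mk' ?_
  rintro _ ⟨F, hF⟩
  let P := F.obj ⟨WalkingPair.left⟩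
  let Q := F.obj ⟨WalkingPair.right⟩
  haveI : P.IsQuasicoherent := hF ⟨WalkingPair.left⟩
  haveI : Q.IsQuasicoherent := hF ⟨WalkingPair.right⟩
  exact (QCohCat.isQCoh X).prop_of_iso
    ((biprod.isoProd P Q) ≪≫ (HasLimit.isoOfNatIso (diagramIsoPair F)).symm)
    (QCoh.Closure.isQCoh_biprod (M := P) (N := Q))

instance finiteProducts : (QCohCat.isQCoh X).IsClosedUnderFiniteProducts :=
  ObjectProperty.IsClosedUnderFiniteProducts.mk'

instance preservesFiniteLimits_ι : PreservesFiniteLimits (QCohCat.isQCoh X).ι := by
  haveI := (QCohCat.isQCoh X).preservesKernels_ι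
  exact Functor.preservesFiniteLimits_of_preservesKernels _

instance preservesFiniteColimits_ι : PreservesFiniteColimits (QCohCat.isQCoh X).ι := by
  haveI := (QCohCat.isQCoh X).preservesCokernels_ι
  exact Functor.preservesFiniteColimits_of_preservesCokernels _

end Groth.Agent.Lib.BettiExact.QCohInc
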