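import Groth.Agent.Lib.BettiExact.TorPull
import Groth.Agent.Lib.Modules.StalkRestrict

/-!
# Tor amplitude and restriction to open subschemes
-/

set_option autoImplicit false
set_option linter.style.haveILetI false

universe u

open CategoryTheory Limits AlgebraicGeometry HomologicalComplex

attribute [local instance] HasDerivedCategory.standard

namespace Groth.Agent.Lib.BettiExact.TorRestrict

open Groth.Agent.Lib Groth.Agent.Lib.DR Groth.Agent.Lib.DR.Basic Groth.Agent.Lib.DR.FiniteComplex
  Groth.Agent.Lib.DR.PseudoCoherent Groth.Agent.Lib.DR.BaseChange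
open Groth.Agent.Lib.DerivedOX Groth.Agent.Lib.Modules StalkModule

/-- A bijective ring map preserves flatness on restriction. -/
theorem flat_res_of_bijective {A B : Type u} [CommRing A] [CommRing B] (e : A →+* B)
    (he : Function.Bijective e) (M : ModuleCat.{u} B) (hM : flat B M) :
    flat A ((ModuleCat.restrictScalars.{u} e).obj M) := by
  letI := e.toAlgebra
  letI : Module A M := Module.compHom M e
  haveI : IsScalarTower A B M := IsScalarTower.of_algebraMap_smul fun _ _ => rfl
  haveI : Module.Flat A B :=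
    Module.Flat.of_linearEquiv (LinearEquiv.ofBijective (Algebra.linearMap A B) he).symm
  haveI : Module.Flat B M := hM
  exact Module.Flat.trans A B M

section

variable {X Y X' Y' : Scheme.{u}} (f : X ⟶ Y) (g : X' ⟶ Y') (u : X' ⟶ X) (v : Y' ⟶ Y)
  [IsOpenImmersion u]

/-- Stalks of restrictions over the base, for a ring map compatible with the stalk maps. -/
noncomputable def stalkOverRestrictIso (x : X')
    (e : Y'.presheaf.stalk (g x) →+* Y.presheaf.stalk (f (u x)))
    (he : (g.stalkMap x).hom = ((u.stalkMap x).hom.comp (f.stalkMap (u x)).hom).comp e) :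
    Scheme.Modules.restrictFunctor u ⋙ DerSch.stalkOver g x ≅
      DerSch.stalkOver f (u x) ⋙ ModuleCat.restrictScalars e :=
  NatIso.ofComponents
    (fun M => LinearEquiv.toModuleIso (R := Y'.presheaf.stalk (g x))
      (m₁ := ((Scheme.Modules.restrictFunctor u ⋙ DerSch.stalkOver g x).obj M).isModule)
      (m₂ := ((DerSch.stalkOver f (u x) ⋙ ModuleCat.restrictScalars e).obj M).isModule)
      { StalkRestrict.restrictStalkAddEquiv u M x with
        map_smul' := fun c w => by
          let w' : (M.restrict u).presheaf.stalk x := w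
          show StalkRestrict.restrictStalkAddEquiv u M x ((g.stalkMap x).hom c • w') =
            (f.stalkMap (u x)).hom (e c) • StalkRestrict.restrictStalkAddEquiv u M x w'
          rw [he]
          exact StalkRestrict.restrictStalkAddEquiv_smul u M x _ w' })
    (fun {M N} φ => by
      ext w
      exact ConcreteCategory.congr_hom ((Local.restrictStalkIso u x).hom.naturality φ) w)

variable [IsOpenImmersion v]

theorem torAmpAt_restrict (w : u ≫ f = g ≫ v) (F : CochainComplex X.Modules ℤ) {a b : ℤ} (x : X')
    (hF : DerSch.HasTorAmplitudeAt f a b F (u x)) :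
    DerSch.HasTorAmplitudeAt g a b
      (((Scheme.Modules.restrictFunctor u).mapHomologicalComplex (ComplexShape.up ℤ)).obj F) x := by
  let γ : Y.presheaf.stalk (f (u x)) ≅ Y.presheaf.stalk (v (g x)) :=
    Y.presheaf.stalkCongr (Inseparable.of_eq (show (u ≫ f) x = (g ≫ v) x by rw [w]))
  let ε : Y.presheaf.stalk (f (u x)) ⟶ Y'.presheaf.stalk (g x) := γ.hom ≫ v.stalkMap (g x)
  haveI : IsIso (v.stalkMap (g x)) := inferInstance
  haveI hε : IsIso ε := @IsIso.comp_isIso _ _ _ _ _ γ.hom (v.stalkMap (g x)) inferInstance ‹_›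
  let e : Y'.presheaf.stalk (g x) →+* Y.presheaf.stalk (f (u x)) := (inv ε).hom
  have h1 : f.stalkMap (u x) ≫ u.stalkMap x = ε ≫ g.stalkMap x := by
    rw [← Scheme.Hom.stalkMap_comp, Scheme.Hom.stalkMap_congr_hom _ _ w x, Scheme.Hom.stalkMap_comp]
    exact (Category.assoc _ _ _).symm
  have he : (g.stalkMap x).hom = ((u.stalkMap x).hom.comp (f.stalkMap (u x)).hom).comp e :=
    congrArg CommRingCat.Hom.hom (((IsIso.eq_inv_comp ε).2 h1.symm) :
      g.stalkMap x = inv ε ≫ f.stalkMap (u x) ≫ u.stalkMap x)
  have hbij : Function.Bijective e := ConcreteCategory.bijective_of_isIso (inv ε)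
  exact Bdd.of_iso (ExactPush.bdd_map (ModuleCat.restrictScalars.{u} e) (flat_res_of_bijective e hbij)
      (show Bdd (flat _) a b _ from hF))
    (ExactPush.mapQ (ModuleCat.restrictScalars.{u} e) _ ≪≫
      DerivedCategory.Q.mapIso ((NatIso.mapHomologicalComplex (stalkOverRestrictIso f g u x e he).symm
        (ComplexShape.up ℤ)).app F))

end

variable {X Y : Scheme.{u}} (f : X ⟶ Y)

theorem torAmp_restrictBase (F : CochainComplex X.Modules ℤ) {a b : ℤ} (hF : DerSch.HasTorAmplitude f a b F)
    (V : Y.Opens) : DerSch.HasTorAmplitude (f ∣_ V) a b ((DCoh.restrictCx (f ⁻¹ᵁ V)).obj F) := fun x =>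
  torAmpAt_restrict f (f ∣_ V) (f ⁻¹ᵁ V).ι V.ι (morphismRestrict_ι f V).symm F x (hF _)

end Groth.Agent.Lib.BettiExact.TorRestrict
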