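import Groth.Agent.Lib.BettiExact.TorBaseChange
import Groth.Agent.Lib.BettiExact.TorRestrict
import Groth.Agent.Lib.DR.DTenRing

/-!
# Tor amplitude on fibre products
-/

set_option autoImplicit false
set_option linter.style.haveILetI false

universe u

open CategoryTheory Limits AlgebraicGeometry HomologicalComplex MonoidalCategory

attribute [local instance] HasDerivedCategory.standard

namespace Groth.Agent.Lib.BettiExact.TorProduct

open Groth.Agent.Lib Groth.Agent.Lib.DR Groth.Agent.Lib.DR.Basic Groth.Agent.Lib.DR.FiniteComplex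
  Groth.Agent.Lib.DR.PseudoCoherent Groth.Agent.Lib.DR.BaseChange
open Groth.Agent.Lib.DerivedOX Groth.Agent.Lib.Modules StalkModule TorTensor KFlatBaseChange TorPull
open TorBaseChange
open StalkCx (commCx)

section Algebra

variable {A B : Type u} [CommRing A] [CommRing B]

/-- A roof for an isomorphism of the derived category. -/
theorem exists_roof {F F' : DRing.Cx B} (e : DerivedCategory.Q.obj F ≅ DerivedCategory.Q.obj F') :
    ∃ (R₀ : DRing.Cx B) (t : R₀ ⟶ F) (r : R₀ ⟶ F'), QuasiIso t ∧ QuasiIso r ∧ DRing.IsKFlat B R₀ := by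
  let R₀ := (KProjRes.res B).obj F
  let t : R₀ ⟶ F := (KProjRes.aug B).app F
  haveI : QuasiIso t := KProjRes.quasiIso_aug B F
  haveI : IsIso (DerivedCategory.Q.map t) :=
    Localization.inverts DerivedCategory.Q (quasiIso (ModuleCat.{u} B) (.up ℤ)) t ‹QuasiIso t›
  obtain ⟨r, hr⟩ := exists_Q_map_eq (DerivedCategory.Q.map t ≫ e.hom)
  haveI : IsIso (DerivedCategory.Q.map r) := hr ▸ inferInstance
  exact ⟨R₀, t, r, inferInstance, (DerivedCategory.isIso_Q_map_iff_quasiIso (ModuleCat B) r).1 inferInstance,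
    KFlat.isKFlat_of_isKProjective R₀⟩

/-- Tensor products with a K-flat complex are invariant in the derived category. -/
theorem nonempty_tensor_iso {P F F' : DRing.Cx B} (hP : DRing.IsKFlat B P)
    (e : DerivedCategory.Q.obj F ≅ DerivedCategory.Q.obj F') :
    Nonempty (DerivedCategory.Q.obj (P ⊗ F) ≅ DerivedCategory.Q.obj (P ⊗ F')) := by
  obtain ⟨R₀, t, r, ht, hr, -⟩ := exists_roof e
  haveI := ht
  haveI := hr
  haveI h₁ := LTensorCx.quasiIso_tensor_left hP t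
  haveI h₂ := LTensorCx.quasiIso_tensor_left hP r
  let i₁ := @asIso _ _ _ _ _ (Localization.inverts DerivedCategory.Q (quasiIso (ModuleCat.{u} B) (.up ℤ))
    (((KFlat.tcx B).obj P).map t) h₁)
  let i₂ := @asIso _ _ _ _ _ (Localization.inverts DerivedCategory.Q (quasiIso (ModuleCat.{u} B) (.up ℤ))
    (((KFlat.tcx B).obj P).map r) h₂)
  exact ⟨i₁.symm ≪≫ i₂⟩

/-- Restriction along a flat ring map preserves K-flatness. -/
theorem isKFlat_res_of_flat (σ : A →+* B) (hσ : σ.Flat) {P : DRing.Cx B} (hP : DRing.IsKFlat B P) :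
    DRing.IsKFlat A ((resC σ).obj P) := by
  haveI : PreservesFiniteLimits (extF σ) := ModuleCat.preservesFiniteLimits_extendScalars_of_flat hσ
  haveI : PreservesFiniteColimits (extF σ) :=
    haveI : PreservesColimitsOfSize.{0, 0} (extF σ) :=
      (ModuleCat.extendRestrictScalarsAdj.{u} σ).leftAdjoint_preservesColimits
    PreservesColimitsOfSize.preservesFiniteColimits _
  refine (StalkCx.isKFlat_iff_left _).2 fun M hM => StalkCx.acyclic_of_iso (projCxIso σ P M) ?_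
  exact acyclic_restrict σ ((StalkCx.isKFlat_iff_left P).1 hP _ (DR.KFlat.acyclic_map (extF σ) hM))

variable {R A₂ : Type u} [CommRing R] [CommRing A₂] (ρ : R →+* B) (σ : R →+* A₂)

/-- Base change along a Tor independent map keeps quasi-isomorphisms between complexes K-flat over the base. -/
theorem quasiIso_ext_of_indep {L : Type u} [CommRing L] (θ : TP ρ σ →+* L) (hθ : θ.Flat)
    {K K' : DRing.Cx B} (v : K ⟶ K') [hv : QuasiIso v] (h : DRing.IsKFlat R ((resC ρ).obj K))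
    (h' : DRing.IsKFlat R ((resC ρ).obj K')) : QuasiIso ((extC (θ.comp (inA ρ σ))).map v) := by
  haveI : PreservesFiniteLimits (extF θ) := ModuleCat.preservesFiniteLimits_extendScalars_of_flat hθ
  haveI : PreservesFiniteColimits (extF θ) :=
    haveI : PreservesColimitsOfSize.{0, 0} (extF θ) :=
      (ModuleCat.extendRestrictScalarsAdj.{u} θ).leftAdjoint_preservesColimits
    PreservesColimitsOfSize.preservesFiniteColimits _
  haveI := hv
  haveI : QuasiIso ((resC ρ).map v) := inferInstance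
  haveI h1 : QuasiIso ((extC σ).map ((resC ρ).map v)) := DTenRing.quasiIso_ext σ ((resC ρ).map v) h h'
  let W := (extC (inA ρ σ)).map v
  let c : (extF (inA ρ σ)).mapHomologicalComplex (ComplexShape.up ℤ) ⋙ resC (inS ρ σ) ≅ resC ρ ⋙ extC σ :=
    NatIso.mapHomologicalComplex (bcIso ρ σ) (ComplexShape.up ℤ)
  have h2 : QuasiIso ((resC (inS ρ σ)).map W) :=
    (quasiIso_iff_of_arrow_mk_iso ((extC σ).map ((resC ρ).map v)) ((resC (inS ρ σ)).map W)
      ((((Functor.mapArrowFunctor _ _).mapIso c).app (Arrow.mk v)).symm)).1 h1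
  haveI h3 : QuasiIso W := (quasiIso_map_iff_of_preservesHomology W (resF (inS ρ σ))).1 h2
  let d : extC (θ.comp (inA ρ σ)) ≅ extC (inA ρ σ) ⋙ extC θ :=
    NatIso.mapHomologicalComplex (ModuleCat.extendScalarsComp (inA ρ σ) θ) (ComplexShape.up ℤ)
  have h4 : QuasiIso ((extC θ).map W) := inferInstance
  have : QuasiIso ((extC (θ.comp (inA ρ σ))).map v) :=
    (quasiIso_iff_of_arrow_mk_iso ((extC θ).map W) ((extC (θ.comp (inA ρ σ))).map v)
      ((((Functor.mapArrowFunctor _ _).mapIso d).app (Arrow.mk v)).symm)).1 h4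
  exact this

/-- A base change of `B` Tor independent over the base keeps tor amplitude over `B`. -/
theorem bdd_ext_of_indep (hρ : ρ.Flat) {L : Type u} [CommRing L] (θ : TP ρ σ →+* L) (hθ : θ.Flat)
    {F : DRing.Cx B} {a b : ℤ} (hK : DRing.IsKFlat R ((resC ρ).obj F))
    (hF : Bdd (flat B) a b (DerivedCategory.Q.obj F)) :
    Bdd (flat L) a b (DerivedCategory.Q.obj ((extC (θ.comp (inA ρ σ))).obj F)) := by
  obtain ⟨T, hT, hTf, ⟨e⟩⟩ := hF
  obtain ⟨R₀, t, r, ht, hr, hR₀⟩ := exists_roof e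
  haveI := ht
  haveI := hr
  haveI : PreservesFiniteLimits (extF θ) := ModuleCat.preservesFiniteLimits_extendScalars_of_flat hθ
  haveI : PreservesFiniteColimits (extF θ) :=
    haveI : PreservesColimitsOfSize.{0, 0} (extF θ) :=
      (ModuleCat.extendRestrictScalarsAdj.{u} θ).leftAdjoint_preservesColimits
    PreservesColimitsOfSize.preservesFiniteColimits _
  have key : ∀ {K K' : DRing.Cx B} (v : K ⟶ K'), QuasiIso v → DRing.IsKFlat R ((resC ρ).obj K) →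
      DRing.IsKFlat R ((resC ρ).obj K') → IsIso (DerivedCategory.Q.map ((extC (θ.comp (inA ρ σ))).map v)) :=
    fun v hv h h' => Localization.inverts DerivedCategory.Q (quasiIso (ModuleCat.{u} L) (.up ℤ)) _
      (quasiIso_ext_of_indep ρ σ θ hθ v (hv := hv) h h')
  have hR₀R : DRing.IsKFlat R ((resC ρ).obj R₀) := isKFlat_res_of_flat ρ hρ hR₀
  have hTR : DRing.IsKFlat R ((resC ρ).obj T) :=
    isKFlat_res_of_flat ρ hρ (KFlat.isKFlat_of_flat T b (fun j hj => hT j (Or.inr hj)) hTf)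
  haveI := key t ht hR₀R hTR
  haveI := key r hr hR₀R hK
  exact ⟨(extC (θ.comp (inA ρ σ))).obj T, fun i hi => (extF (θ.comp (inA ρ σ))).map_isZero (hT i hi),
    fun i => ext_flat _ _ (hTf i),
    ⟨(asIso (DerivedCategory.Q.map ((extC (θ.comp (inA ρ σ))).map t))).symm ≪≫
      asIso (DerivedCategory.Q.map ((extC (θ.comp (inA ρ σ))).map r))⟩⟩

end Algebra

variable {X Y Y' W : Scheme.{u}} {f : X ⟶ Y} {g : Y' ⟶ Y} {p₀ : W ⟶ X} {q₀ : W ⟶ Y'}

/-- Tor amplitude of a pulled back complex, when the base change keeps it on local rings. -/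
theorem torAmpAt_pb_of (hW : IsPullback p₀ q₀ f g) (P : CochainComplex X.Modules ℤ) {a b : ℤ} (w : W)
    (hE : Bdd (flat (Y'.presheaf.stalk (q₀ w))) a b (DerivedCategory.Q.obj
      ((extC (StalkTensor.baseMap hW w)).obj ((resC (f.stalkMap (p₀ w)).hom).obj ((stC (p₀ w)).obj P))))) :
    DerSch.HasTorAmplitudeAt q₀ a b ((pbC p₀).obj P) w := by
  obtain ⟨θ, hθ, hA, hS⟩ := StalkTensor.exists_flat_map hW w
  have hb := bdd_res_ext_of (f.stalkMap (p₀ w)).hom (StalkTensor.baseMap hW w) θ hθ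
    (F := (stC (p₀ w)).obj P) hE
  rw [hA, hS] at hb
  exact (torAmpAt_iff _ w _ a b).2 (Bdd.of_iso hb (DerivedCategory.Q.mapIso
    ((resC (q₀.stalkMap w).hom).mapIso (stalkPbIso p₀ w P))))

/-- Tor amplitude of a pulled back complex under a flat base change. -/
theorem torAmpAt_pb_of_flat (hW : IsPullback p₀ q₀ f g) [Flat g] (P : CochainComplex X.Modules ℤ) {a b : ℤ}
    (w : W) (hP : DerSch.HasTorAmplitudeAt f a b P (p₀ w)) :
    DerSch.HasTorAmplitudeAt q₀ a b ((pbC p₀).obj P) w := by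
  have hψ := StalkTensor.baseMap_flat hW w
  haveI : PreservesFiniteLimits (extF (StalkTensor.baseMap hW w)) :=
    ModuleCat.preservesFiniteLimits_extendScalars_of_flat hψ
  haveI : PreservesFiniteColimits (extF (StalkTensor.baseMap hW w)) :=
    haveI : PreservesColimitsOfSize.{0, 0} (extF (StalkTensor.baseMap hW w)) :=
      (ModuleCat.extendRestrictScalarsAdj.{u} (StalkTensor.baseMap hW w)).leftAdjoint_preservesColimits
    PreservesColimitsOfSize.preservesFiniteColimits _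
  exact torAmpAt_pb_of hW P w (Bdd.of_iso (ExactPush.bdd_map (P' := flat _) (extF (StalkTensor.baseMap hW w))
      (fun M hM => ext_flat _ M hM) ((torAmpAt_iff f _ P a b).1 hP))
    (ExactPush.mapQ (extF (StalkTensor.baseMap hW w)) _))

/-- Local rings of the fibre product are Tor independent base changes. -/
theorem bdd_ext_specializes {S₀ X₀ Y₀ W₀ : Scheme.{u}} {q : Y₀ ⟶ S₀} {k : X₀ ⟶ S₀} {s : W₀ ⟶ Y₀}
    {r : W₀ ⟶ X₀} (hq : IsPullback s r q k) [Flat q] (w : W₀) (y : Y₀) (hy : s w = y)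
    (F : DRing.Cx (Y₀.presheaf.stalk y)) {a b : ℤ}
    (hK : DRing.IsKFlat (S₀.presheaf.stalk (q y)) ((resC (q.stalkMap y).hom).obj F))
    (hF : Bdd (flat (Y₀.presheaf.stalk y)) a b (DerivedCategory.Q.obj F)) :
    Bdd (flat (W₀.presheaf.stalk w)) a b (DerivedCategory.Q.obj
      ((extC (Y₀.presheaf.stalkSpecializes (specializes_of_eq hy) ≫ s.stalkMap w).hom).obj F)) := by
  subst hy
  obtain ⟨θ, hθ, hA, -⟩ := StalkTensor.exists_flat_map hq w
  have h := bdd_ext_of_indep (q.stalkMap (s w)).hom (StalkTensor.baseMap hq w) (Flat.stalkMap q (s w)) θ hθ hK hF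
  rw [hA] at h
  simpa only [TopCat.Presheaf.stalkSpecializes_refl, Category.id_comp] using h

/-- A factorization of a product of morphisms over a flat base, with the tor amplitude of the second factor. -/
theorem exists_factor {S X₁ Y₁ X₂ Y₂ X Y : Scheme.{u}} (f₁ : X₁ ⟶ Y₁) (q₁ : Y₁ ⟶ S)
    (f₂ : X₂ ⟶ Y₂) (q₂ : Y₂ ⟶ S) [Flat q₂] [Flat (f₂ ≫ q₂)]
    (pX₁ : X ⟶ X₁) (pX₂ : X ⟶ X₂) (hX : IsPullback pX₁ pX₂ (f₁ ≫ q₁) (f₂ ≫ q₂))
    (pY₁ : Y ⟶ Y₁) (pY₂ : Y ⟶ Y₂) (hY : IsPullback pY₁ pY₂ q₁ q₂)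
    (f : X ⟶ Y) (hf₁ : f ≫ pY₁ = pX₁ ≫ f₁) (hf₂ : f ≫ pY₂ = pX₂ ≫ f₂) :
    ∃ (W : Scheme.{u}) (r : W ⟶ X₁) (a : X ⟶ W) (b : W ⟶ Y), a ≫ b = f ∧ a ≫ r = pX₁ ∧
      IsPullback r b f₁ pY₁ ∧ Flat r ∧ Flat pY₁ ∧
      ∀ (P : CochainComplex X₂.Modules ℤ), DCoh.IsKFlat P → ∀ (m n : ℤ),
        DerSch.HasTorAmplitude f₂ m n P → DerSch.HasTorAmplitude a m n ((pbC pX₂).obj P) := by
  let W := pullback (f₁ ≫ q₁) q₂
  let r : W ⟶ X₁ := pullback.fst _ _
  let s : W ⟶ Y₂ := pullback.snd _ _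
  have hWs : IsPullback r s (f₁ ≫ q₁) q₂ := IsPullback.of_hasPullback _ _
  let b : W ⟶ Y := hY.lift (r ≫ f₁) s (by rw [Category.assoc, hWs.w])
  have hb₁ : b ≫ pY₁ = r ≫ f₁ := hY.lift_fst _ _ _
  have hb₂ : b ≫ pY₂ = s := hY.lift_snd _ _ _
  let a : X ⟶ W := hWs.lift pX₁ (pX₂ ≫ f₂) (by rw [hX.w, Category.assoc])
  have har : a ≫ r = pX₁ := hWs.lift_fst _ _ _
  have has : a ≫ s = pX₂ ≫ f₂ := hWs.lift_snd _ _ _
  have hab : a ≫ b = f := hY.hom_ext (by rw [Category.assoc, hb₁, reassoc_of% har, hf₁])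
    (by rw [Category.assoc, hb₂, has, hf₂])
  have sqa : IsPullback pX₂ a f₂ s :=
    (IsPullback.of_right (har.symm ▸ hX) has hWs).flip
  have sqb : IsPullback r b f₁ pY₁ :=
    (IsPullback.of_right (hb₂.symm ▸ hWs.flip) hb₁ hY.flip).flip
  refine ⟨W, r, a, b, hab, har, sqb, MorphismProperty.of_isPullback hWs.flip ‹Flat q₂›,
    MorphismProperty.of_isPullback hY.flip ‹Flat q₂›, fun P hP m n hPamp x => ?_⟩
  refine torAmpAt_pb_of sqa P x (bdd_ext_specializes hWs.flip (a x) (f₂ (pX₂ x)) ?_ _ ?_ ?_)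
  · rw [← Scheme.Hom.comp_apply, ← Scheme.Hom.comp_apply, has]
  · exact StalkCx.isKFlat_of_iso (stOverCompIso f₂ q₂ (pX₂ x) P).symm
      (isKFlat_res_of_flat _ (Flat.stalkMap (f₂ ≫ q₂) (pX₂ x)) ((KFlatStalk.isKFlat_iff_stalk P).1 hP _))
  · exact (torAmpAt_iff f₂ _ P m n).1 (hPamp _)

/-- Pullback of complexes along a composite. -/
noncomputable def pbCompIso {U V T : Scheme.{u}} (a : U ⟶ V) (r : V ⟶ T) (c : U ⟶ T) (w : a ≫ r = c)
    (P : CochainComplex T.Modules ℤ) : (pbC a).obj ((pbC r).obj P) ≅ (pbC c).obj P :=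
  (NatIso.mapHomologicalComplex (Scheme.Modules.pullbackComp a r ≪≫ Scheme.Modules.pullbackCongr w)
    (ComplexShape.up ℤ)).app P

/-- The structure complex is K-flat. -/
theorem isKFlat_unitCx (X : Scheme.{u}) : DCoh.IsKFlat (DerSch.unitCx X) := by
  refine (KFlatStalk.isKFlat_iff_stalk _).2 fun x => ?_
  refine KFlat.isKFlat_of_flat _ 0 (fun i hi => (stalkModFunctor X x).map_isZero (isZero_single_obj_X _ _ _ _ (by omega)))
    fun i => ?_
  rcases eq_or_ne i 0 with rfl | hne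
  · exact good_flat.iso ((TorComp.stalkUnitEquiv X x).toModuleIso.symm ≪≫
      ((stalkModFunctor X x).mapIso (singleObjXSelf (ComplexShape.up ℤ) 0 (Coh.structureModule X))).symm)
      (inferInstanceAs (Module.Flat (X.presheaf.stalk x) (X.presheaf.stalk x)))
  · exact good_flat.zero ((stalkModFunctor X x).map_isZero (isZero_single_obj_X _ _ _ _ hne))

/-- The pullback of the structure complex. -/
noncomputable def pbUnitIso {X Y : Scheme.{u}} (p : X ⟶ Y) :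
    (pbC p).obj (DerSch.unitCx Y) ≅ DerSch.unitCx X :=
  (singleMapHomologicalComplex (Scheme.Modules.pullback p) (ComplexShape.up ℤ) 0).app _ ≪≫
    (single X.Modules (ComplexShape.up ℤ) 0).mapIso (PicLoc.pullbackStructureIso p)

/-- Isomorphic complexes have the same tor amplitude. -/
theorem torAmpAt_of_cxIso {X Y : Scheme.{u}} (f : X ⟶ Y) (x : X) {F F' : CochainComplex X.Modules ℤ}
    (e : F ≅ F') {a b : ℤ} (h : DerSch.HasTorAmplitudeAt f a b F x) : DerSch.HasTorAmplitudeAt f a b F' x :=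
  torAmpAt_of_iso f x (DerivedCategory.Q.mapIso e) h

section Main

variable {S X₁ Y₁ X₂ Y₂ X Y : Scheme.{u}} (f₁ : X₁ ⟶ Y₁) (q₁ : Y₁ ⟶ S) (f₂ : X₂ ⟶ Y₂) (q₂ : Y₂ ⟶ S)
  (pX₁ : X ⟶ X₁) (pX₂ : X ⟶ X₂) (hX : IsPullback pX₁ pX₂ (f₁ ≫ q₁) (f₂ ≫ q₂))
  (pY₁ : Y ⟶ Y₁) (pY₂ : Y ⟶ Y₂) (hY : IsPullback pY₁ pY₂ q₁ q₂)
  (f : X ⟶ Y) (hf₁ : f ≫ pY₁ = pX₁ ≫ f₁) (hf₂ : f ≫ pY₂ = pX₂ ≫ f₂)
include hX hY hf₁ hf₂

/-- Tor dimension of a product of morphisms. -/
theorem hasTorDimLE_product [Flat q₂] [Flat (f₂ ≫ q₂)] (n₁ n₂ : ℕ) (h₁ : DerSch.HasTorDimLE f₁ n₁)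
    (h₂ : DerSch.HasTorDimLE f₂ n₂) : DerSch.HasTorDimLE f (n₁ + n₂) := by
  obtain ⟨W, r, a, b, hab, -, sqb, -, hpY, ha⟩ := exists_factor f₁ q₁ f₂ q₂ pX₁ pX₂ hX pY₁ pY₂ hY f hf₁ hf₂
  haveI := hpY
  subst hab
  have hb : DerSch.HasTorDimLE b n₁ := fun w =>
    torAmpAt_of_cxIso b w (pbUnitIso r) (torAmpAt_pb_of_flat sqb _ w (h₁ _))
  intro x
  have h := TorComp.hasTorAmplitudeAt_comp a b n₁ hb (DerSch.unitCx X) (-(n₂ : ℤ)) 0 x
    (torAmpAt_of_cxIso a x (pbUnitIso pX₂) (ha _ (isKFlat_unitCx X₂) _ _ h₂ x))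
  have e : (-(n₂ : ℤ)) - n₁ = -((n₁ + n₂ : ℕ) : ℤ) := by push_cast; ring
  rwa [e] at h

/-- Tor amplitude of an external tensor product. -/
theorem torAmpD_external [Flat q₂] [Flat (f₂ ≫ q₂)] (E₁ : CochainComplex X₁.Modules ℤ) {a₁ b₁ : ℤ}
    (h₁ : DerSch.HasTorAmplitude f₁ a₁ b₁ E₁) (E₂ : CochainComplex X₂.Modules ℤ) {a₂ b₂ : ℤ}
    (h₂ : DerSch.HasTorAmplitude f₂ a₂ b₂ E₂) [DCoh.HasLpull pX₁] [DCoh.HasLpull pX₂]
    (K₂ : CochainComplex X.Modules ℤ) [DCoh.HasLTensorCx K₂]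
    (e : DCoh.toD X K₂ ≅ (DCoh.Lpull pX₂).obj (DCoh.toD X₂ E₂)) :
    DerSch.HasTorAmplitudeD f (a₁ + a₂) (b₁ + b₂)
      ((DCoh.LTensorCx K₂).obj ((DCoh.Lpull pX₁).obj (DCoh.toD X₁ E₁))) := by
  obtain ⟨W, r, a, b, hab, har, sqb, -, hpY, ha⟩ := exists_factor f₁ q₁ f₂ q₂ pX₁ pX₂ hX pY₁ pY₂ hY f hf₁ hf₂
  haveI := hpY
  subst hab
  let P₁ := (KFlat.res X₁).obj E₁
  haveI : QuasiIso ((KFlat.aug X₁).app E₁) := KFlat.quasiIso_aug E₁
  let eP₁ : DCoh.toD X₁ P₁ ≅ DCoh.toD X₁ E₁ := asIso (DerivedCategory.Q.map ((KFlat.aug X₁).app E₁))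
  have hP₁ : DCoh.IsKFlat P₁ := KFlat.isKFlat_res E₁
  let P₂ := (KFlat.res X₂).obj E₂
  haveI : QuasiIso ((KFlat.aug X₂).app E₂) := KFlat.quasiIso_aug E₂
  let eP₂ : DCoh.toD X₂ P₂ ≅ DCoh.toD X₂ E₂ := asIso (DerivedCategory.Q.map ((KFlat.aug X₂).app E₂))
  obtain ⟨e₂⟩ := nonempty_lpull_iso pX₂ (KFlat.isKFlat_res E₂)
  obtain ⟨e₁⟩ := nonempty_ltensor_lpull_iso pX₁ K₂ hP₁
  refine torAmpD_of _ ((DCoh.LTensorCx K₂).mapIso ((DCoh.Lpull pX₁).mapIso eP₁.symm) ≪≫ e₁) fun x => ?_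
  have hK₂ : DerSch.HasTorAmplitudeAt a a₂ b₂ K₂ x :=
    torAmpAt_of_iso a x (e ≪≫ (DCoh.Lpull pX₂).mapIso eP₂.symm ≪≫ e₂).symm
      (ha P₂ (KFlat.isKFlat_res E₂) _ _ (fun x₂ => torAmpAt_of_iso f₂ x₂ eP₂.symm (h₂ x₂)) x)
  have h := torAmpAt_pb_tensor a b (KFlatPullback.isKFlat_pullback r hP₁) K₂ x hK₂
    (torAmpAt_pb_of_flat sqb P₁ (a x) (torAmpAt_of_iso f₁ _ eP₁.symm (h₁ _)))
  rw [add_comm a₂ a₁, add_comm b₂ b₁] at h
  exact torAmpAt_of_cxIso _ x ((DCoh.tensorCx.mapIso (pbCompIso a r pX₁ har P₁)).app K₂) h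

/-- Bounds of an external tensor product with a flat first factor. -/
theorem bounded_external [Flat q₁] [Flat (f₁ ≫ q₁)] (E₁ : CochainComplex X₁.Modules ℤ) {a₁ b₁ : ℤ}
    (h₁ : DerSch.HasTorAmplitude f₁ a₁ b₁ E₁) (E₂ : CochainComplex X₂.Modules ℤ) {a₂ b₂ : ℤ}
    (h₂a : (DCoh.toD X₂ E₂).IsGE a₂) (h₂b : (DCoh.toD X₂ E₂).IsLE b₂) [DCoh.HasLpull pX₁] [DCoh.HasLpull pX₂]
    (K₂ : CochainComplex X.Modules ℤ) [DCoh.HasLTensorCx K₂]
    (e : DCoh.toD X K₂ ≅ (DCoh.Lpull pX₂).obj (DCoh.toD X₂ E₂)) (i : ℤ) (hi : i < a₁ + a₂ ∨ b₁ + b₂ < i) :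
    IsZero ((DerivedCategory.homologyFunctor X.Modules i).obj
      ((DCoh.LTensorCx K₂).obj ((DCoh.Lpull pX₁).obj (DCoh.toD X₁ E₁)))) := by
  obtain ⟨W, r, a, b, -, har, -, hr, -, ha⟩ :=
    exists_factor f₂ q₂ f₁ q₁ pX₂ pX₁ hX.flip pY₂ pY₁ hY.flip f hf₂ hf₁
  haveI := hr
  let P₁ := (KFlat.res X₁).obj E₁
  haveI : QuasiIso ((KFlat.aug X₁).app E₁) := KFlat.quasiIso_aug E₁
  let eP₁ : DCoh.toD X₁ P₁ ≅ DCoh.toD X₁ E₁ := asIso (DerivedCategory.Q.map ((KFlat.aug X₁).app E₁))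
  have hP₁ : DCoh.IsKFlat P₁ := KFlat.isKFlat_res E₁
  let P₂ := (KFlat.res X₂).obj E₂
  haveI : QuasiIso ((KFlat.aug X₂).app E₂) := KFlat.quasiIso_aug E₂
  let eP₂ : DCoh.toD X₂ P₂ ≅ DCoh.toD X₂ E₂ := asIso (DerivedCategory.Q.map ((KFlat.aug X₂).app E₂))
  have hP₂ : DCoh.IsKFlat P₂ := KFlat.isKFlat_res E₂
  have hP₂e : ∀ j : ℤ, j < a₂ ∨ b₂ < j → P₂.ExactAt j := fun j hj => by
    refine (exactAt_iff_isZero_homology _ _).2 (IsZero.of_iso ?_ ((homologyQIso P₂ j).symm ≪≫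
      (DerivedCategory.homologyFunctor _ j).mapIso eP₂))
    rcases hj with hj | hj
    · exact DerivedCategory.isZero_of_isGE _ a₂ j hj
    · exact DerivedCategory.isZero_of_isLE _ b₂ j hj
  let Q₂ := (pbC r).obj P₂
  obtain ⟨e₂⟩ := nonempty_lpull_iso pX₂ hP₂
  obtain ⟨e₁⟩ := nonempty_ltensor_lpull_iso pX₁ K₂ hP₁
  let eK : DCoh.toD X K₂ ≅ DCoh.toD X ((pbC a).obj Q₂) :=
    e ≪≫ (DCoh.Lpull pX₂).mapIso eP₂.symm ≪≫ e₂ ≪≫ DerivedCategory.Q.mapIso (pbCompIso a r pX₂ har P₂).symm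
  have hW : ((DCoh.tensorCx.obj ((pbC pX₁).obj P₁)).obj K₂).ExactAt i := by
    refine (Amplitude.exactAt_iff_stalk _ i).2 fun x => ?_
    haveI : PreservesFiniteColimits (stalkModFunctor X x) :=
      PreservesColimitsOfSize.preservesFiniteColimits _
    obtain ⟨eT⟩ := nonempty_tensor_iso
      ((KFlatStalk.isKFlat_iff_stalk _).1 (KFlatPullback.isKFlat_pullback pX₁ hP₁) x)
      ((ExactPush.mapQ (stalkModFunctor X x) K₂).symm ≪≫ (stalkModFunctor X x).mapDerivedCategory.mapIso eK ≪≫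
        ExactPush.mapQ (stalkModFunctor X x) _)
    have hQe : ∀ j : ℤ, j < a₂ ∨ b₂ < j → ((stC (a x)).obj Q₂).ExactAt j := fun j hj => by
      haveI : PreservesFiniteLimits (extF (r.stalkMap (a x)).hom) :=
        ModuleCat.preservesFiniteLimits_extendScalars_of_flat (Flat.stalkMap r (a x))
      haveI : PreservesFiniteColimits (extF (r.stalkMap (a x)).hom) :=
        haveI : PreservesColimitsOfSize.{0, 0} (extF (r.stalkMap (a x)).hom) :=
          (ModuleCat.extendRestrictScalarsAdj.{u} (r.stalkMap (a x)).hom).leftAdjoint_preservesColimits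
        PreservesColimitsOfSize.preservesFiniteColimits _
      exact (exactAt_congr (stalkPbIso r (a x) P₂) j).1
        (((Amplitude.exactAt_iff_stalk P₂ j).1 (hP₂e j hj) (r (a x))).map (extF (r.stalkMap (a x)).hom))
    have h := exactAt_tensor_of_amp
      ((KFlatStalk.isKFlat_iff_stalk _).1 (KFlatPullback.isKFlat_pullback r hP₂) (a x)) hQe
      ((torAmpAt_iff a x _ a₁ b₁).1 (ha P₁ hP₁ _ _ (fun x₁ => torAmpAt_of_iso f₁ x₁ eP₁.symm (h₁ x₁)) x))
      i (by omega)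
    have h' : ((stC x).obj ((pbC pX₁).obj P₁) ⊗ (stC x).obj ((pbC a).obj Q₂)).ExactAt i :=
      (exactAt_congr (commCx _ _ ≪≫ StalkCx.tensorIso x _ _) i).2
        ((exactAt_resC_iff (a.stalkMap x).hom _ i).1
          ((exactAt_congr (stalkTensorPbIso a x Q₂ ((pbC pX₁).obj P₁)) i).2 h))
    exact (exactAt_congr (StalkCx.tensorIso x _ _) i).1 ((exactAt_iff_isZero_homology _ _).2
      (((exactAt_iff_isZero_homology _ _).1 h').of_iso ((homologyQIso _ _).symm ≪≫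
        (DerivedCategory.homologyFunctor _ i).mapIso eT ≪≫ homologyQIso _ _)))
  exact ((exactAt_iff_isZero_homology _ _).1 hW).of_iso
    ((DerivedCategory.homologyFunctor X.Modules i).mapIso
      ((DCoh.LTensorCx K₂).mapIso ((DCoh.Lpull pX₁).mapIso eP₁.symm) ≪≫ e₁) ≪≫ homologyQIso _ _)

end Main

end Groth.Agent.Lib.BettiExact.TorProduct
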