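import Groth.Agent.Lib.BettiExact.TorAmpStalk
import Groth.Agent.Lib.Modules.FreeStalk
import Groth.Agent.Lib.TensorMod.LocFree
import Groth.Agent.H54.TorDimHom
import Groth.Prelude.Def_DDual2

/-!
# Tor amplitude along a composite of morphisms
-/

set_option autoImplicit false
set_option linter.style.haveILetI false

universe u

open CategoryTheory Limits AlgebraicGeometry HomologicalComplex

attribute [local instance] HasDerivedCategory.standard

namespace Groth.Agent.Lib.BettiExact.TorComp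

open Groth.Agent.Lib Groth.Agent.Lib.DR Groth.Agent.Lib.DR.FiniteComplex Groth.Agent.Lib.DR.PseudoCoherent
open Groth.Agent.Lib.DerivedOX Groth.Agent.Lib.Modules

variable {X Y Z : Scheme.{u}}

/-- The stalk of the structure module. -/
noncomputable def stalkUnitEquiv (Y : Scheme.{u}) (y : Y) :
    (Coh.structureModule Y).presheaf.stalk y ≃ₗ[Y.presheaf.stalk y] Y.presheaf.stalk y :=
  (StalkModule.stalkLinearEquiv (TensorMod.LocFree.freeModOneIso Y) y).symm.trans
    ((FreeStalk.stalkBasis Y 1 y).equivFun.trans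
      (LinearEquiv.funUnique (Fin 1) (Y.presheaf.stalk y) (Y.presheaf.stalk y)))

theorem bdd_unit (g : Y ⟶ Z) (n : ℕ) (hg : DerSch.HasTorDimLE g n) (y : Y) :
    letI : Algebra (Z.presheaf.stalk (g y)) (Y.presheaf.stalk y) := (g.stalkMap y).hom.toAlgebra
    Bdd (flat (Z.presheaf.stalk (g y))) (-(n : ℤ)) 0
      (Dual.inD (Z.presheaf.stalk (g y)) (Y.presheaf.stalk y)) := by
  letI : Algebra (Z.presheaf.stalk (g y)) (Y.presheaf.stalk y) := (g.stalkMap y).hom.toAlgebra
  let e : (DerSch.stalkOver g y).obj (Coh.structureModule Y) ≅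
      ModuleCat.of (Z.presheaf.stalk (g y)) (Y.presheaf.stalk y) :=
    LinearEquiv.toModuleIso <|
      @AddEquiv.toLinearEquiv _ _ _ _ _ _ (((DerSch.stalkOver g y).obj (Coh.structureModule Y)).isModule) _
        (stalkUnitEquiv Y y).toAddEquiv
        (fun c (v : (Coh.structureModule Y).presheaf.stalk y) =>
          (stalkUnitEquiv Y y).map_smul ((g.stalkMap y).hom c) v)
  refine Bdd.of_iso (hg y) (DerivedCategory.Q.mapIso
    (((singleMapHomologicalComplex (DerSch.stalkOver g y) (ComplexShape.up ℤ) 0).app _) ≪≫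
      (single (ModuleCat.{u} (Z.presheaf.stalk (g y))) (ComplexShape.up ℤ) 0).mapIso e) ≪≫
    ((DerivedCategory.singleFunctorIsoCompQ _ 0).app _).symm)

theorem hasTorAmplitudeAt_comp (f : X ⟶ Y) (g : Y ⟶ Z) (n : ℕ) (hg : DerSch.HasTorDimLE g n)
    (F : CochainComplex X.Modules ℤ) (a b : ℤ) (x : X) (hF : DerSch.HasTorAmplitudeAt f a b F x) :
    DerSch.HasTorAmplitudeAt (f ≫ g) (a - n) b F x := by
  let y := f x
  let φ : Z.presheaf.stalk (g y) →+* Y.presheaf.stalk y := (g.stalkMap y).hom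
  let ψ : Y.presheaf.stalk y →+* X.presheaf.stalk x := (f.stalkMap x).hom
  letI : Algebra (Z.presheaf.stalk (g y)) (Y.presheaf.stalk y) := φ.toAlgebra
  have h1 := Groth.Agent.H54.TorDimHom.bdd_flat_res_of_torDim
    ((TorDim.hasTorDimLE_iff (Y.presheaf.stalk y) n).2 (bdd_unit g n hg y)) (show Bdd (flat _) a b _ from hF)
  let χ : Z.presheaf.stalk (g y) →+* X.presheaf.stalk x := ((f ≫ g).stalkMap x).hom
  have hχ : χ = ψ.comp φ :=
    (congrArg (fun t => CommRingCat.Hom.hom t) (Scheme.Hom.stalkMap_comp f g x)).trans rfl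
  let S₁ : X.Modules ⥤ ModuleCat.{u} (Y.presheaf.stalk y) := DerSch.stalkOver f x
  let S₂ : X.Modules ⥤ ModuleCat.{u} (Z.presheaf.stalk (g y)) :=
    DerSch.stalkFunctor X x ⋙ ModuleCat.restrictScalars χ
  let e₀ : S₁ ⋙ ModuleCat.restrictScalars φ ≅ S₂ :=
    Functor.associator _ _ _ ≪≫
      Functor.isoWhiskerLeft (DerSch.stalkFunctor X x) (ModuleCat.restrictScalarsComp' φ ψ χ hχ).symm
  refine Bdd.of_iso h1 ?_
  exact ExactPush.mapQ (ModuleCat.restrictScalars φ) _ ≪≫
    DerivedCategory.Q.mapIso ((NatIso.mapHomologicalComplex e₀ (ComplexShape.up ℤ)).app F)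

end Groth.Agent.Lib.BettiExact.TorComp
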