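import Groth.Prelude.Def_DerSch
import Groth.Agent.Lib.DerivedOX.AmplitudeStalk
import Groth.Agent.Lib.Perfect.FlatPerfect
import Groth.Prelude.Def_DTor2

/-!
# Tor amplitude relative to the identity
-/

set_option autoImplicit false
set_option linter.style.haveILetI false

universe u

open CategoryTheory Limits AlgebraicGeometry HomologicalComplex
open scoped ZeroObject

attribute [local instance] HasDerivedCategory.standard

namespace Groth.Agent.Lib.BettiExact.TorAmpStalk

open Groth.Agent.Lib Groth.Agent.Lib.DR Groth.Agent.Lib.DR.FiniteComplex Groth.Agent.Lib.DR.PseudoCoherent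
open Groth.Agent.Lib.DerivedOX Groth.Agent.Lib.Modules StalkModule

variable {X : Scheme.{u}}

/-- The stalk followed by restriction along the identity ring map. -/
noncomputable def stalkResIso (x : X) (f : X.presheaf.stalk x →+* X.presheaf.stalk x)
    (hf : f = RingHom.id _) :
    stalkModFunctor X x ≅ DerSch.stalkFunctor X x ⋙ ModuleCat.restrictScalars f :=
  (NatIso.ofComponents (fun _ => Iso.refl _) (fun φ => by ext v; rfl) :
      stalkModFunctor X x ≅ DerSch.stalkFunctor X x) ≪≫
    (Functor.rightUnitor _).symm ≪≫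
    Functor.isoWhiskerLeft _ (ModuleCat.restrictScalarsId' f hf).symm

/-- Stalks over the identity are stalks. -/
noncomputable def stalkOverIdIso (x : X) :
    stalkModFunctor X x ≅ DerSch.stalkOver (𝟙 X) x :=
  stalkResIso x ((𝟙 X : X ⟶ X).stalkMap x).hom (by rw [Scheme.Hom.stalkMap_id]; rfl)

instance stalkOver_additive {Y : Scheme.{u}} (f : X ⟶ Y) (x : X) : (DerSch.stalkOver f x).Additive :=
  inferInstanceAs ((DerSch.stalkFunctor X x ⋙ ModuleCat.restrictScalars (f.stalkMap x).hom).Additive)

theorem bdd_iff (F : CochainComplex X.Modules ℤ) (a b : ℤ) (x : X) :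
    DerSch.HasTorAmplitudeAt (𝟙 X) a b F x ↔
      Bdd (flat (X.presheaf.stalk x)) a b
        (DerivedCategory.Q.obj (((stalkModFunctor X x).mapHomologicalComplex (ComplexShape.up ℤ)).obj F)) := by
  let f : X.presheaf.stalk x →+* X.presheaf.stalk x := ((𝟙 X : X ⟶ X).stalkMap x).hom
  let e₀ : stalkModFunctor X x ≅ DerSch.stalkFunctor X x ⋙ ModuleCat.restrictScalars f :=
    stalkOverIdIso x
  let e := DerivedCategory.Q.mapIso
    ((NatIso.mapHomologicalComplex e₀ (ComplexShape.up ℤ)).app F)
  exact ⟨fun h => Bdd.of_iso h e.symm, fun h => Bdd.of_iso h e⟩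

/-- Flat amplitude gives stalkwise tor amplitude. -/
theorem torAmp_of_flatAmp {F : CochainComplex X.Modules ℤ} {a b : ℤ}
    (h : DCoh.HasFlatAmplitudeIn a b (DCoh.toD X F)) : DerSch.HasTorAmplitude (𝟙 X) a b F := fun x => by
  haveI : PreservesFiniteColimits (stalkModFunctor X x) :=
    PreservesColimitsOfSize.preservesFiniteColimits _
  exact (bdd_iff F a b x).2
    (Bdd.of_iso (Perfect.FlatPerfect.bdd_stalk h x) (ExactPush.mapQ (stalkModFunctor X x) F))

lemma exactAt_of_bdd {A : Type u} [CommRing A] {C : DRing.Cx A} {a b i : ℤ}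
    (h : Bdd (flat A) a b (DerivedCategory.Q.obj C)) (hi : i < a ∨ b < i) : C.ExactAt i := by
  obtain ⟨E, hE, -, ⟨e⟩⟩ := h
  exact (exactAt_iff_isZero_homology _ _).2 ((ExactAt.of_isZero (hE i hi)).isZero_homology.of_iso
    (((DerivedCategory.homologyFunctorFactors _ i).app C).symm ≪≫
      (DerivedCategory.homologyFunctor _ i).mapIso e.symm ≪≫
        (DerivedCategory.homologyFunctorFactors _ i).app E))

theorem exactAt_of_torAmp {F : CochainComplex X.Modules ℤ} {a b : ℤ}
    (h : DerSch.HasTorAmplitude (𝟙 X) a b F) (i : ℤ) (hi : i < a ∨ b < i) : F.ExactAt i :=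
  (Amplitude.exactAt_iff_stalk F i).2 fun x => exactAt_of_bdd ((bdd_iff F a b x).1 (h x)) hi

/-- Stalkwise tor amplitude gives flat amplitude. -/
theorem flatAmp_of_torAmp {F : CochainComplex X.Modules ℤ} {a b : ℤ}
    (h : DerSch.HasTorAmplitude (𝟙 X) a b F) : DCoh.HasFlatAmplitudeIn a b (DCoh.toD X F) := by
  obtain ⟨G, s, hG, hflat, hs⟩ := FlatResolve.exists_flat_resolution F b fun i hi =>
    exactAt_of_torAmp h i (Or.inr hi)
  haveI := hs
  have hGe : ∀ i, i < a ∨ b < i → G.ExactAt i := fun i hi =>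
    (exactAt_iff_of_quasiIsoAt s i).2 (exactAt_of_torAmp h i hi)
  let eG : DCoh.toD X G ≅ DCoh.toD X F := asIso (DerivedCategory.Q.map s)
  by_cases hab : a ≤ b
  · haveI : G.IsGE a := (CochainComplex.isGE_iff G a).2 fun i hi => hGe i (Or.inl hi)
    haveI : QuasiIso (G.πTruncGE a) := (G.quasiIso_πTruncGE_iff a).2 inferInstance
    have hop : FlatMod.IsFlat (G.opcycles a) := fun x => by
      let S := stalkModFunctor X x
      haveI : PreservesFiniteColimits S := PreservesColimitsOfSize.preservesFiniteColimits _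
      let Gx := (S.mapHomologicalComplex (ComplexShape.up ℤ)).obj G
      haveI : Module.Flat (X.presheaf.stalk x) ((Gx.X a) ⧸ LinearMap.range (Gx.d (a - 1) a).hom) :=
        TorAmp.flat_coker Gx (fun i hi => S.map_isZero (hG i hi)) (fun i => hflat i x)
          (Bdd.of_iso ((bdd_iff F a b x).1 (h x))
            (asIso (DerivedCategory.Q.map ((S.mapHomologicalComplex (ComplexShape.up ℤ)).map s))).symm)
      have hp := (ComplexShape.up ℤ).prev_eq' (show (ComplexShape.up ℤ).Rel (a - 1) a by simp)
      let e : Gx.opcycles a ≅ S.obj (G.opcycles a) :=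
        (Gx.opcyclesIsCokernel (a - 1) a hp).coconePointUniqueUpToIso
          (CokernelCofork.mapIsColimit _ (G.opcyclesIsCokernel (a - 1) a hp) S)
      exact Module.Flat.of_linearEquiv (TorAmp.opcyclesIso Gx a ≪≫ e).toLinearEquiv.symm
    refine ⟨G.truncGE a, fun i hi => ?_, fun i => ?_,
      ⟨(asIso (DerivedCategory.Q.map (G.πTruncGE a))).symm ≪≫ eG⟩⟩
    · rcases hi with hi | hi
      · exact (G.truncGE a).isZero_of_isStrictlyGE a i hi
      · exact (hG i hi).of_iso (G.truncGEXIso a i (lt_of_le_of_lt hab hi))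
    · rcases lt_trichotomy i a with h' | h' | h'
      · exact FlatResolve.good_isFlat.zero ((G.truncGE a).isZero_of_isStrictlyGE a i h')
      · subst h'
        exact FlatResolve.good_isFlat.iso (G.truncGEXIsoOpcycles i).symm hop
      · exact FlatResolve.good_isFlat.iso (G.truncGEXIso a i h').symm (hflat i)
  · let Z := (HomologicalComplex.single X.Modules (ComplexShape.up ℤ) 0).obj (0 : X.Modules)
    have hz : ∀ i, IsZero (Z.X i) := fun i => by
      rcases eq_or_ne i 0 with rfl | hne
      · exact (isZero_zero _).of_iso (singleObjXSelf (ComplexShape.up ℤ) 0 _)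
      · exact isZero_single_obj_X _ _ _ _ hne
    haveI : QuasiIso (0 : Z ⟶ G) :=
      ⟨fun i => quasiIsoAt_iff_exactAt' _ i (hGe i (by omega)) |>.2 (ExactAt.of_isZero (hz i))⟩
    exact ⟨Z, fun i _ => hz i, fun i => FlatResolve.good_isFlat.zero (hz i),
      ⟨asIso (DerivedCategory.Q.map (0 : Z ⟶ G)) ≪≫ eG⟩⟩

end Groth.Agent.Lib.BettiExact.TorAmpStalk
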