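import Groth.Agent.Lib.BettiExact.TorRestrict
import Groth.Agent.Lib.BettiExact.TorAmpStalk
import Groth.Agent.Lib.DerivedOX.ProjClosed

/-!
# Tor amplitude of a closed direct image
-/

set_option autoImplicit false
set_option linter.style.haveILetI false

universe u

open CategoryTheory Limits AlgebraicGeometry HomologicalComplex

attribute [local instance] HasDerivedCategory.standard

namespace Groth.Agent.Lib.BettiExact.TorPush

open Groth.Agent.Lib Groth.Agent.Lib.DR Groth.Agent.Lib.DR.Basic Groth.Agent.Lib.DR.FiniteComplex
  Groth.Agent.Lib.DR.PseudoCoherent Groth.Agent.Lib.DR.BaseChange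
open Groth.Agent.Lib.DerivedOX Groth.Agent.Lib.Modules StalkModule TorTensor KFlatBaseChange TorPull

variable {X X' Y : Scheme.{u}} (i : X ⟶ X')

/-- The stalk of a direct image along a closed immersion. -/
noncomputable def pushStalkIso [IsClosedImmersion i] (x : X) :
    Scheme.Modules.pushforward i ⋙ stalkModFunctor X' (i x) ≅
      stalkModFunctor X x ⋙ resF (i.stalkMap x).hom :=
  NatIso.ofComponents
    (fun M => LinearEquiv.toModuleIso (R := X'.presheaf.stalk (i x))
      (m₁ := ((Scheme.Modules.pushforward i ⋙ stalkModFunctor X' (i x)).obj M).isModule)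
      (m₂ := ((stalkModFunctor X x ⋙ resF (i.stalkMap x).hom).obj M).isModule)
      { AddEquiv.ofBijective (PullbackStalk.pushStalkMap i x M).hom
          (PushClosed.Unit.bijective_pushStalkMap i M x) with
        map_smul' := fun c a => PullbackStalk.pushStalkMap_smul i x M c a })
    (fun {M N} φ => by
      ext a
      exact PullbackStalk.pushStalkMap_natural i x φ a)

/-- A flat ring map preserves flatness on restriction. -/
theorem flat_res_of_flat {A B : Type u} [CommRing A] [CommRing B] (e : A →+* B)
    (he : e.Flat) (M : ModuleCat.{u} B) (hM : flat B M) :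
    flat A ((ModuleCat.restrictScalars.{u} e).obj M) := by
  letI := e.toAlgebra
  letI : Module A M := Module.compHom M e
  haveI : IsScalarTower A B M := IsScalarTower.of_algebraMap_smul fun _ _ => rfl
  haveI : Module.Flat A B := he
  haveI : Module.Flat B M := hM
  exact Module.Flat.trans A B M

/-- Flat amplitude of a closed direct image bounds tor amplitude over a base of a flat ambient morphism. -/
theorem torAmp_of_flatAmp_push [IsClosedImmersion i] (f' : X' ⟶ Y) [Flat f'] (F : CochainComplex X.Modules ℤ)
    {a b : ℤ} (hF : DCoh.HasFlatAmplitudeIn a b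
      (DCoh.toD X' (((Scheme.Modules.pushforward i).mapHomologicalComplex (ComplexShape.up ℤ)).obj F))) :
    DerSch.HasTorAmplitude (i ≫ f') a b F := fun x => by
  have h := (TorAmpStalk.bdd_iff _ a b (i x)).1 (TorAmpStalk.torAmp_of_flatAmp hF (i x))
  let e : (stC (i x)).obj (((Scheme.Modules.pushforward i).mapHomologicalComplex (ComplexShape.up ℤ)).obj F) ≅
      (resC (i.stalkMap x).hom).obj ((stC x).obj F) :=
    (NatIso.mapHomologicalComplex (pushStalkIso i x) (ComplexShape.up ℤ)).app F
  have h' := ExactPush.bdd_map (P' := flat (Y.presheaf.stalk (f' (i x)))) (resF (f'.stalkMap (i x)).hom)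
    (fun M hM => flat_res_of_flat _ (Flat.stalkMap f' (i x)) M hM) (h.of_iso (DerivedCategory.Q.mapIso e))
  exact (torAmpAt_iff (i ≫ f') x F a b).2 (Bdd.of_iso h' (ExactPush.mapQ (resF (f'.stalkMap (i x)).hom) _ ≪≫
    DerivedCategory.Q.mapIso (stOverCompIso i f' x F)))

end Groth.Agent.Lib.BettiExact.TorPush
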