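import Groth.Agent.Lib.BettiExact.FlatCoker
import Groth.Agent.Lib.Perfect.FibreDim
import Groth.Agent.Lib.Perfect.FlatPerfect
import Groth.Agent.Lib.Perfect.Tensor
import Groth.Agent.Lib.DerivedOX.TildeStalk

/-!
# Flatness of the opcycles at locally constant Betti numbers
-/

set_option autoImplicit false
set_option linter.style.haveILetI false

universe u

open CategoryTheory Limits AlgebraicGeometry HomologicalComplex

attribute [local instance] HasDerivedCategory.standard

namespace Groth.Agent.Lib.BettiExact.Local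

open Groth.Agent.Lib Groth.Agent.Lib.Perfect.Basic Groth.Agent.Lib.Perfect.Ascent
open Groth.Agent.Lib.Perfect.PseudoCoh Groth.Agent.Lib.DerivedOX

/-- `tilde` of a flat module is flat. -/
theorem isFlat_tilde {R : CommRingCat.{u}} (M : ModuleCat.{u} R) [Module.Flat R M] :
    FlatMod.IsFlat (tilde M) := fun x => by
  haveI := TildeStalk.isIso_comparison R x M
  let e := (asIso ((TildeStalk.comparison R x).app M)).toLinearEquiv
  letI : Algebra R ((Spec R).presheaf.stalk x) := (TildeStalk.σ R x).toAlgebra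
  haveI : Module.Flat ((Spec R).presheaf.stalk x)
      ((ModuleCat.extendScalars.{u, u, u} (TildeStalk.σ R x)).obj M) :=
    inferInstanceAs (Module.Flat ((Spec R).presheaf.stalk x)
      (TensorProduct R ((Spec R).presheaf.stalk x) M))
  exact Module.Flat.of_linearEquiv e.symm

variable {X U : Scheme.{u}}

lemma isFlatAt_of_iso {M N : X.Modules} (e : M ≅ N) {x : X} (h : FlatMod.IsFlatAt M x) :
    FlatMod.IsFlatAt N x := by
  haveI : Module.Flat (X.presheaf.stalk x) ((Modules.StalkModule.stalkModFunctor X x).obj M) := h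
  exact Module.Flat.of_linearEquiv
    ((Modules.StalkModule.stalkModFunctor X x).mapIso e).toLinearEquiv.symm

/-- Opcycles commute with restriction to opens. -/
noncomputable def opcyclesRestrictIso (j : U ⟶ X) [IsOpenImmersion j]
    (K : CochainComplex X.Modules ℤ) (k : ℤ) :
    ((rC j).obj K).opcycles k ≅ (Scheme.Modules.restrictFunctor j).obj (K.opcycles k) :=
  have hp := (ComplexShape.up ℤ).prev_eq' (show (ComplexShape.up ℤ).Rel (k - 1) k by simp)
  (((rC j).obj K).opcyclesIsCokernel (k - 1) k hp).coconePointUniqueUpToIso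
    (CokernelCofork.mapIsColimit _ (K.opcyclesIsCokernel (k - 1) k hp)
      (Scheme.Modules.restrictFunctor j))

lemma isFlat_opcycles_map (j : U ⟶ X) [IsOpenImmersion j] (K : CochainComplex X.Modules ℤ) (k : ℤ)
    (h : FlatMod.IsFlat (K.opcycles k)) : FlatMod.IsFlat (((rC j).obj K).opcycles k) :=
  FlatCoker.isFlat_of_iso (opcyclesRestrictIso j K k).symm
    (Perfect.FlatPerfect.isFlat_restrict j h)

lemma isFlatAt_opcycles_of_map (j : U ⟶ X) [IsOpenImmersion j] (K : CochainComplex X.Modules ℤ)
    (k : ℤ) (h : FlatMod.IsFlat (((rC j).obj K).opcycles k)) (x : U) :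
    FlatMod.IsFlatAt (K.opcycles k) (j x) :=
  Perfect.FlatPerfect.isFlatAt_of_restrict j x
    (FlatCoker.isFlat_of_iso (opcyclesRestrictIso j K k) h x)

/-- Two upper semicontinuous functions with locally constant sum are locally constant. -/
lemma eventually_eq {T : Type*} [TopologicalSpace T] (f g : T → ℕ)
    (hf : UpperSemicontinuous f) (hg : UpperSemicontinuous g) (q : T)
    (h : ∀ᶠ y in nhds q, f y + g y = f q + g q) : ∀ᶠ y in nhds q, f y = f q := by
  filter_upwards [h, hf q (f q + 1) (Nat.lt_succ_self _), hg q (g q + 1) (Nat.lt_succ_self _)]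
    with y h1 h2 h3
  omega

/-- Constancy on a neighbourhood passes to generizations. -/
lemma eq_of_le {A : Type u} [CommRing A] (f : PrimeSpectrum A → ℕ)
    (hf : ∀ q, ∀ᶠ y in nhds q, f y = f q) (x y : PrimeSpectrum A) (h : x ≤ y) : f x = f y := by
  obtain ⟨t, ht, ho, hy⟩ := eventually_nhds_iff.1 (hf y)
  exact ht x (((PrimeSpectrum.le_iff_specializes x y).1 h).mem_open ho hy)

/-- The cokernels of the differentials of a free model are flat if the Betti number is locally
constant and the scheme is reduced. -/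
theorem flat_coker {R : CommRingCat.{u}} (j : Spec R ⟶ X) [IsOpenImmersion j] [IsReduced X]
    [∀ x : X, DCoh.HasLpull (X.fromSpecResidueField x)] (K : DCoh.D X) {m : ℤ}
    {E : CochainComplex (Spec R).Modules ℤ} (hE : DCoh.IsStrictlyPerfect E)
    (α : DerivedCategory.Q.obj E ⟶ (RD j).obj K) (hα : Good m α) (n : ℤ → ℕ)
    (he : ∀ k, Nonempty (E.X k ≅ FlatMod.freeMod (Spec R) (n k))) (p : ℤ) (hp : m < p)
    (hc : IsLocallyConstant (fun x : X => PerfD.betti K x p)) :
    FlatMod.IsFlat (E.opcycles p) ∧ FlatMod.IsFlat (E.opcycles (p + 1)) := by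
  choose N hN hiN using Perfect.FibreDim.exists_coker n he
  haveI := hN p
  haveI := hN (p + 1)
  have key : ∀ q : Spec R, (PerfD.betti K (j q) p : ℤ) + (n (p + 1) : ℤ) =
      (FlatCx.Rank.fdim (A := R) (N p) q : ℤ) + (FlatCx.Rank.fdim (A := R) (N (p + 1)) q : ℤ) :=
    fun q => Perfect.FibreDim.deg_fibre j (X.fromSpecResidueField (j q))
      (Field.toIsField (IsLocalRing.ResidueField (X.presheaf.stalk (j q)))) hE α hα n he N hN hiN q
      (fun z => Scheme.fromSpecResidueField_apply _ z) p hp
  let f : PrimeSpectrum R → ℕ := fun q => FlatCx.Rank.fdim (A := R) (N p) q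
  let g : PrimeSpectrum R → ℕ := fun q => FlatCx.Rank.fdim (A := R) (N (p + 1)) q
  have hs : ∀ q : PrimeSpectrum R, ∀ᶠ y in nhds q, f y + g y = f q + g q := fun q => by
    have hc' : IsLocallyConstant fun y : Spec R => PerfD.betti K (j y) p :=
      hc.comp_continuous j.continuous
    refine ((hc'.eventually_eq q).mono fun (y : Spec R) hy => ?_ :
      ∀ᶠ y : Spec R in nhds q, f y + g y = f q + g q)
    have h1 := key y
    have h2 := key q
    simp only [f, g] at *
    omega
  have hf := FlatCx.Rank.upperSemicontinuous_fdim (A := R) (N p)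
  have hg := FlatCx.Rank.upperSemicontinuous_fdim (A := R) (N (p + 1))
  haveI : IsReduced (Spec R) := isReduced_of_isOpenImmersion j
  haveI : _root_.IsReduced R :=
    isReduced_of_injective (Scheme.ΓSpecIso R).inv.hom
      (Scheme.ΓSpecIso R).symm.commRingCatIsoToRingEquiv.injective
  haveI : Module.Flat R (N p) := FlatCx.Rank.flat_of_fdim_eq_of_le _
    (eq_of_le f fun q => eventually_eq f g hf hg q (hs q))
  haveI : Module.Flat R (N (p + 1)) := FlatCx.Rank.flat_of_fdim_eq_of_le _
    (eq_of_le g fun q => eventually_eq g f hg hf q ((hs q).mono fun y hy => by omega))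
  have key' : ∀ k, Module.Flat R (N k) → FlatMod.IsFlat (E.opcycles k) := fun k _ =>
    FlatCoker.isFlat_of_iso ((hiN k).some.symm ≪≫
      ((cokernelIsCokernel (E.d (k - 1) k)).coconePointUniqueUpToIso (E.opcyclesIsCokernel (k - 1) k
        ((ComplexShape.up ℤ).prev_eq' (show (ComplexShape.up ℤ).Rel (k - 1) k by simp)))))
      (isFlat_tilde _)
  exact ⟨key' p inferInstance, key' (p + 1) inferInstance⟩

/-- A good map of complexes is a quasi-isomorphism in high degrees. -/
lemma quasiIsoAt_of_good {A B : CochainComplex X.Modules ℤ} {m : ℤ} (φ : A ⟶ B)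
    (h : Good m (DerivedCategory.Q.map φ)) (i : ℤ) (hi : m < i) : QuasiIsoAt φ i := by
  rw [quasiIsoAt_iff_isIso_homologyMap]
  haveI := h.1 i hi
  exact (NatIso.isIso_map_iff (DerivedCategory.homologyFunctorFactors X.Modules i) φ).1 this

/-- Flatness of the opcycles of a flat representative. -/
theorem isFlat_opcycles [IsReduced X] [∀ x : X, DCoh.HasLpull (X.fromSpecResidueField x)]
    (P : CochainComplex X.Modules ℤ) (hPf : ∀ i, FlatMod.IsFlat (P.X i)) (b : ℤ)
    (hPb : ∀ i, b < i → IsZero (P.X i)) (p : ℤ)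
    (hE : DCoh.IsPseudoCoherentD (p - 1) (DerivedCategory.Q.obj P))
    (hc : IsLocallyConstant (fun x : X => PerfD.betti (DerivedCategory.Q.obj P) x p)) :
    FlatMod.IsFlat (P.opcycles p) ∧ FlatMod.IsFlat (P.opcycles (p + 1)) := by
  suffices h : ∀ x, FlatMod.IsFlatAt (P.opcycles p) x ∧ FlatMod.IsFlatAt (P.opcycles (p + 1)) x from
    ⟨fun x => (h x).1, fun x => (h x).2⟩
  intro x
  obtain ⟨R, j, _, q, E, α, n, hq, hEs, hα, -, he⟩ :=
    Perfect.FibreDim.exists_chart ((iff_forall (p - 1) _).1 hE x)
  obtain ⟨hE0, hE1⟩ := flat_coker j _ hEs α hα n he p (by omega) hc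
  obtain ⟨V, k, _, v, φ, hv, hφ⟩ := Perfect.Lift.exists_map hEs (α ≫ (RDQ j P).hom) q
  have hgood : Good (p - 1) (DerivedCategory.Q.map φ) := by
    have e : DerivedCategory.Q.map φ =
        (RDQ k E).inv ≫ (RD k).map (α ≫ (RDQ j P).hom) ≫ (RDQ k ((rC j).obj P)).hom := by
      rw [hφ]; simp
    rw [e]
    exact (Good.of_isIso _ _).comp
      ((good_restrict k (hα.comp (Good.of_isIso _ _))).comp (Good.of_isIso _ _))
  obtain ⟨⟨a', b', hv'⟩, hlf⟩ := isStrictlyPerfect_map k hEs
  have main : ∀ i, p ≤ i → FlatMod.IsFlat (E.opcycles i) → FlatMod.IsFlatAt (P.opcycles i) x := by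
    intro i hi hflat
    have h : FlatMod.IsFlat (((rC k).obj ((rC j).obj P)).opcycles i) :=
      FlatCoker.isFlat_opcycles_of_qis φ i (max b b')
        (fun l hl => quasiIsoAt_of_good φ hgood l (by omega))
        (fun l hl => hv' l (Or.inr (by omega)))
        (fun l hl => (Scheme.Modules.restrictFunctor k).map_isZero
          ((Scheme.Modules.restrictFunctor j).map_isZero (hPb l (by omega))))
        (fun l => Perfect.Tensor.isFlat_of_isFinLocFree (hlf l))
        (fun l => Perfect.FlatPerfect.isFlat_restrict k (Perfect.FlatPerfect.isFlat_restrict j (hPf l)))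
        (isFlat_opcycles_map k E i hflat)
    have h1 : FlatMod.IsFlatAt (((rC j).obj P).opcycles i) q :=
      hv ▸ isFlatAt_opcycles_of_map k ((rC j).obj P) i h v
    exact hq ▸ Perfect.FlatPerfect.isFlatAt_of_restrict j q
      (isFlatAt_of_iso (opcyclesRestrictIso j P i) h1)
  exact ⟨main p le_rfl hE0, main (p + 1) (by omega) hE1⟩

end Groth.Agent.Lib.BettiExact.Local
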