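import Groth.Agent.H52.FDesc.BaseChangeFlat

/-!
# Local rings of a fibre product are flat over the tensor product of local rings
-/

set_option autoImplicit false

universe u

open CategoryTheory CategoryTheory.Limits AlgebraicGeometry TensorProduct

namespace Groth.Agent.Lib.BettiExact.StalkTensor

open Groth.Agent.H52.FDesc.BaseChangeFlat

variable {X Y Y' W : Scheme.{u}} {f : X ⟶ Y} {g : Y' ⟶ Y} {p₀ : W ⟶ X} {q₀ : W ⟶ Y'}
  (hW : IsPullback p₀ q₀ f g) (x' : W)

/-- The map from the local ring of the base to the local ring of the second factor. -/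
noncomputable def baseMap :
    Y.presheaf.stalk (f (p₀ x')) →+* Y'.presheaf.stalk (q₀ x') :=
  (Y.presheaf.stalkSpecializes (show g (q₀ x') ⤳ f (p₀ x') by
    rw [← Scheme.Hom.comp_apply, ← Scheme.Hom.comp_apply, hW.w]) ≫
      g.stalkMap (q₀ x')).hom

theorem baseMap_flat [Flat g] : (baseMap hW x').Flat := by
  have h : g (q₀ x') = f (p₀ x') := by
    rw [← Scheme.Hom.comp_apply, ← Scheme.Hom.comp_apply, hW.w]
  have he : IsIso (Y.presheaf.stalkSpecializes (specializes_of_eq h)) :=
    (Y.presheaf.stalkCongr (Inseparable.of_eq h.symm)).isIso_hom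
  exact RingHom.Flat.comp
    (RingHom.Flat.of_bijective (ConcreteCategory.bijective_of_isIso (Y.presheaf.stalkSpecializes (specializes_of_eq h))))
    (Flat.stalkMap g (q₀ x'))

set_option maxHeartbeats 1000000 in
/-- The local ring at a point of a fibre product is flat over the tensor product of the local rings. -/
theorem exists_flat_map :
    letI : Algebra (Y.presheaf.stalk (f (p₀ x'))) (X.presheaf.stalk (p₀ x')) :=
      (f.stalkMap (p₀ x')).hom.toAlgebra
    letI : Algebra (Y.presheaf.stalk (f (p₀ x'))) (Y'.presheaf.stalk (q₀ x')) :=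
      (baseMap hW x').toAlgebra
    ∃ θ : (X.presheaf.stalk (p₀ x') ⊗[Y.presheaf.stalk (f (p₀ x'))]
        Y'.presheaf.stalk (q₀ x')) →+* W.presheaf.stalk x',
      θ.Flat ∧ θ.comp Algebra.TensorProduct.includeLeftRingHom = ((p₀).stalkMap x').hom ∧
        θ.comp (RingHomClass.toRingHom Algebra.TensorProduct.includeRight) = ((q₀).stalkMap x').hom := by
  let p := p₀
  let q := q₀
  let R := Y.presheaf.stalk (f (p x'))
  let A := X.presheaf.stalk (p x')
  let S := Y'.presheaf.stalk (q x')
  let L := W.presheaf.stalk x'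
  have hyy : g (q x') ⤳ f (p x') := by
    rw [← Scheme.Hom.comp_apply, ← Scheme.Hom.comp_apply, hW.w]
  let φ : R ⟶ A := f.stalkMap (p x')
  let ψ : R ⟶ S := Y.presheaf.stalkSpecializes hyy ≫ g.stalkMap (q x')
  let πA : A ⟶ L := p.stalkMap x'
  let πS : S ⟶ L := q.stalkMap x'
  have hψ : Spec.map ψ ≫ Y.fromSpecStalk (f (p x')) = Y'.fromSpecStalk (q x') ≫ g := by
    rw [Spec.map_comp, Category.assoc, Scheme.SpecMap_stalkSpecializes_fromSpecStalk,
      Scheme.SpecMap_stalkMap_fromSpecStalk]
  have hcomm : φ ≫ πA = ψ ≫ πS := by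
    apply Spec.map_injective
    rw [← cancel_mono (Y.fromSpecStalk (f (p x'))), Spec.map_comp, Spec.map_comp, Category.assoc,
      Category.assoc, hψ, Scheme.SpecMap_stalkMap_fromSpecStalk, ← Category.assoc, ← Category.assoc,
      Scheme.SpecMap_stalkMap_fromSpecStalk, Scheme.SpecMap_stalkMap_fromSpecStalk,
      Category.assoc, Category.assoc, hW.w]
  let _ : Algebra R A := φ.hom.toAlgebra
  let _ : Algebra R S := ψ.hom.toAlgebra
  let _ : Algebra A L := πA.hom.toAlgebra
  let _ : Algebra R L := (πA.hom.comp φ.hom).toAlgebra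
  have : IsScalarTower R A L := IsScalarTower.of_algebraMap_eq fun _ => rfl
  let iS : S →ₐ[R] L :=
    { πS.hom with commutes' := fun r => (congr($(hcomm).hom r)).symm }
  let θ : A ⊗[R] S →ₐ[A] L :=
    Algebra.TensorProduct.lift (Algebra.ofId A L) iS fun _ _ => Commute.all _ _
  let _ : Algebra (A ⊗[R] S) L := θ.toRingHom.toAlgebra
  have : IsScalarTower A (A ⊗[R] S) L := IsScalarTower.of_algebraMap_eq fun a => (θ.commutes a).symm
  -- the flatness of `θ`
  let inl : Spec (CommRingCat.of (A ⊗[R] S)) ⟶ Spec A :=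
    Spec.map (CommRingCat.ofHom (Algebra.TensorProduct.includeLeftRingHom : A →+* A ⊗[R] S))
  let inr : Spec (CommRingCat.of (A ⊗[R] S)) ⟶ Spec S :=
    Spec.map (CommRingCat.ofHom (Algebra.TensorProduct.includeRight : S →ₐ[R] A ⊗[R] S).toRingHom)
  have hin : inl ≫ Spec.map φ = inr ≫ Spec.map ψ := by
    refine (Spec.map_comp φ _).symm.trans ((congrArg Spec.map ?_).trans (Spec.map_comp ψ _))
    ext r
    exact Algebra.TensorProduct.tmul_one_eq_one_tmul (A := A) (B := S) r
  let j : Spec (CommRingCat.of (A ⊗[R] S)) ⟶ W :=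
    hW.lift (inl ≫ X.fromSpecStalk (p x')) (inr ≫ Y'.fromSpecStalk (q x')) (by
      rw [Category.assoc, Category.assoc, ← Scheme.SpecMap_stalkMap_fromSpecStalk, ← hψ,
        ← Category.assoc, hin, Category.assoc])
  have hj : Mono j := ⟨fun {W} u v huv => by
    have h1 := congr($huv ≫ p₀)
    have h2 := congr($huv ≫ q₀)
    simp only [Category.assoc, j, hW.lift_fst, hW.lift_snd] at h1 h2
    rw [← Category.assoc, ← Category.assoc, cancel_mono] at h1 h2
    rw [← cancel_mono (pullbackSpecIso R A S).inv]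
    ext1 <;> rw [Category.assoc, Category.assoc]
    · rw [pullbackSpecIso_inv_fst]; exact h1
    · rw [pullbackSpecIso_inv_snd]; exact h2⟩
  let a : Spec L ⟶ Spec (CommRingCat.of (A ⊗[R] S)) :=
    Spec.map (CommRingCat.ofHom θ.toRingHom : CommRingCat.of (A ⊗[R] S) ⟶ L)
  have haj : a ≫ j = W.fromSpecStalk x' := by
    have hA : a ≫ inl = Spec.map πA := by
      refine (Spec.map_comp (_ : A ⟶ CommRingCat.of (A ⊗[R] S)) _).symm.trans (congrArg Spec.map ?_)
      ext z; show θ (z ⊗ₜ 1) = πA.hom z; simp [θ]; rfl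
    have hS : a ≫ inr = Spec.map πS := by
      refine (Spec.map_comp (_ : S ⟶ CommRingCat.of (A ⊗[R] S)) _).symm.trans (congrArg Spec.map ?_)
      ext z; show θ (1 ⊗ₜ z) = πS.hom z; simp [θ, iS]
    apply hW.hom_ext
    · rw [Category.assoc, hW.lift_fst, ← Category.assoc, hA,
        Scheme.SpecMap_stalkMap_fromSpecStalk]
    · rw [Category.assoc, hW.lift_snd, ← Category.assoc, hS,
        Scheme.SpecMap_stalkMap_fromSpecStalk]
  have : Flat a := MorphismProperty.of_isPullback (P := @Flat)
    (isPullback_of_mono a j _ haj).flip (Groth.Agent.H52.FBase.StalkBC.flat_fromSpecStalk x')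
  have : Module.Flat (A ⊗[R] S) L := (HasRingHomProperty.Spec_iff (P := @Flat)).mp this
  exact ⟨θ.toRingHom, this, RingHom.ext fun z => by show θ (z ⊗ₜ 1) = πA.hom z; simp [θ]; rfl,
    RingHom.ext fun z => by show θ (1 ⊗ₜ z) = πS.hom z; simp [θ, iS]⟩

end Groth.Agent.Lib.BettiExact.StalkTensor
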