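import Groth.Agent.Lib.BettiExact.TorPull
import Groth.Agent.Lib.BettiExact.StalkTensor

/-!
# Tor amplitude and flat base change
-/

set_option autoImplicit false
set_option linter.style.haveILetI false

universe u

open CategoryTheory Limits AlgebraicGeometry HomologicalComplex MonoidalCategory
open scoped TensorProduct

attribute [local instance] HasDerivedCategory.standard

namespace Groth.Agent.Lib.BettiExact.TorBaseChange

open Groth.Agent.Lib Groth.Agent.Lib.DR Groth.Agent.Lib.DR.Basic Groth.Agent.Lib.DR.FiniteComplex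
  Groth.Agent.Lib.DR.PseudoCoherent Groth.Agent.Lib.DR.BaseChange
open Groth.Agent.Lib.DerivedOX Groth.Agent.Lib.Modules StalkModule TorTensor KFlatBaseChange TorPull

section Algebra

variable {R A S L : Type u} [CommRing R] [CommRing A] [CommRing S] [CommRing L] (φ : R →+* A) (ψ : R →+* S)

/-- The tensor product of the two algebras defined by ring maps. -/
abbrev TP : Type u :=
  letI := φ.toAlgebra
  letI := ψ.toAlgebra
  A ⊗[R] S

/-- The inclusion of the first factor. -/
noncomputable abbrev inA : A →+* TP φ ψ :=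
  letI := φ.toAlgebra
  letI := ψ.toAlgebra
  Algebra.TensorProduct.includeLeftRingHom

/-- The inclusion of the second factor. -/
noncomputable abbrev inS : S →+* TP φ ψ :=
  letI := φ.toAlgebra
  letI := ψ.toAlgebra
  RingHomClass.toRingHom (Algebra.TensorProduct.includeRight : S →ₐ[R] A ⊗[R] S)

/-- The base change of a restricted module, as an additive equivalence. -/
noncomputable def bcAddEquiv' (V : Type u) [AddCommGroup V] [Module A V] :
    letI := φ.toAlgebra
    letI := ψ.toAlgebra
    letI : Module R V := Module.compHom V φ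
    haveI : IsScalarTower R A V := IsScalarTower.of_algebraMap_smul fun _ _ => rfl
    (A ⊗[R] S) ⊗[A] V ≃+ S ⊗[R] V :=
  letI := φ.toAlgebra
  letI := ψ.toAlgebra
  letI : Module R V := Module.compHom V φ
  haveI : IsScalarTower R A V := IsScalarTower.of_algebraMap_smul fun _ _ => rfl
  ((TensorProduct.comm A (A ⊗[R] S) V).toAddEquiv.trans
      (TensorProduct.AlgebraTensorModule.cancelBaseChange R A A V S).toAddEquiv).trans
      (TensorProduct.comm R V S).toAddEquiv

lemma bcAddEquiv'_tmul (V : Type u) [AddCommGroup V] [Module A V] (a : A) (s : S) (v : V) :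
    letI := φ.toAlgebra
    letI := ψ.toAlgebra
    letI : Module R V := Module.compHom V φ
    bcAddEquiv' φ ψ V ((a ⊗ₜ[R] s) ⊗ₜ[A] v) = s ⊗ₜ[R] (a • v) := by
  letI := φ.toAlgebra
  letI := ψ.toAlgebra
  letI : Module R V := Module.compHom V φ
  haveI : IsScalarTower R A V := IsScalarTower.of_algebraMap_smul fun _ _ => rfl
  simp [bcAddEquiv']

/-- The tensor algebra as a module over the first factor, in two ways. -/
noncomputable def e₀ :
    letI := φ.toAlgebra
    letI := ψ.toAlgebra
    (resF (inA φ ψ)).obj (ModuleCat.of (TP φ ψ) (TP φ ψ)) ≃ₗ[A] A ⊗[R] S :=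
  letI := φ.toAlgebra
  letI := ψ.toAlgebra
  { toFun := fun x => x
    invFun := fun x => x
    left_inv := fun _ => rfl
    right_inv := fun _ => rfl
    map_add' := fun _ _ => rfl
    map_smul' := fun a x => by
      let x' : A ⊗[R] S := x
      show (a ⊗ₜ[R] (1 : S)) * x' = a • x'
      rw [Algebra.smul_def]
      rfl }

/-- The base change of a restricted module. -/
noncomputable def bcAddEquiv (M : ModuleCat.{u} A) :
    (extF (inA φ ψ) ⋙ resF (inS φ ψ)).obj M ≃+ (resF φ ⋙ extF ψ).obj M :=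
  letI := φ.toAlgebra
  letI := ψ.toAlgebra
  (TensorProduct.congr (e₀ φ ψ) (LinearEquiv.refl A M)).toAddEquiv.trans (bcAddEquiv' φ ψ M)

/-- The source of the base change isomorphism, as a tensor product. -/
noncomputable abbrev Src (M : ModuleCat.{u} A) : Type u :=
  (resF (inA φ ψ)).obj (ModuleCat.of (TP φ ψ) (TP φ ψ)) ⊗[A] M

/-- Multiplication on the source of the base change isomorphism. -/
noncomputable def mulSrc (M : ModuleCat.{u} A) (c : TP φ ψ) : Src φ ψ M →+ Src φ ψ M :=
  DistribSMul.toAddMonoidHom ((extF (inA φ ψ)).obj M) c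

lemma congr_mulSrc (M : ModuleCat.{u} A) (c : TP φ ψ) (z : Src φ ψ M) :
    letI := φ.toAlgebra
    letI := ψ.toAlgebra
    TensorProduct.congr (e₀ φ ψ) (LinearEquiv.refl A M) (mulSrc φ ψ M c z) =
      ((show A ⊗[R] S from c) • (show (A ⊗[R] S) ⊗[A] M from
        TensorProduct.congr (e₀ φ ψ) (LinearEquiv.refl A M) z) : (A ⊗[R] S) ⊗[A] M) := by
  letI := φ.toAlgebra
  letI := ψ.toAlgebra
  induction z using TensorProduct.induction_on with
  | zero => simp only [map_zero, smul_zero]
  | add x y hx hy => simp only [map_add, hx, hy, smul_add]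
  | tmul t m => rfl

lemma bcAddEquiv'_smul (V : Type u) [AddCommGroup V] [Module A V] (s : S) :
    letI := φ.toAlgebra
    letI := ψ.toAlgebra
    letI : Module R V := Module.compHom V φ
    ∀ w : (A ⊗[R] S) ⊗[A] V,
      bcAddEquiv' φ ψ V (((1 : A) ⊗ₜ[R] s : A ⊗[R] S) • w) = (s • bcAddEquiv' φ ψ V w : S ⊗[R] V) := by
  letI := φ.toAlgebra
  letI := ψ.toAlgebra
  letI : Module R V := Module.compHom V φ
  haveI : IsScalarTower R A V := IsScalarTower.of_algebraMap_smul fun _ _ => rfl
  intro w
  induction w using TensorProduct.induction_on with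
  | zero => simp
  | add x y hx hy => simp only [smul_add, map_add, hx, hy]
  | tmul t m =>
    induction t using TensorProduct.induction_on with
    | zero => simp
    | add x y hx hy => simp only [TensorProduct.add_tmul, smul_add, map_add, hx, hy]
    | tmul a s' => simp [bcAddEquiv'_tmul, TensorProduct.smul_tmul']

lemma congr_lTensor {M N : ModuleCat.{u} A} (g : M ⟶ N) (z : Src φ ψ M) :
    letI := φ.toAlgebra
    letI := ψ.toAlgebra
    TensorProduct.congr (e₀ φ ψ) (LinearEquiv.refl A N) (g.hom.lTensor _ z) =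
      g.hom.lTensor (A ⊗[R] S) (TensorProduct.congr (e₀ φ ψ) (LinearEquiv.refl A M) z) := by
  letI := φ.toAlgebra
  letI := ψ.toAlgebra
  induction z using TensorProduct.induction_on with
  | zero => simp only [map_zero]
  | add x y hx hy => simp only [map_add, hx, hy]
  | tmul t m => rfl

lemma bcAddEquiv'_natural {V W : Type u} [AddCommGroup V] [Module A V] [AddCommGroup W] [Module A W]
    (g : V →ₗ[A] W) :
    letI := φ.toAlgebra
    letI := ψ.toAlgebra
    letI : Module R V := Module.compHom V φ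
    letI : Module R W := Module.compHom W φ
    haveI : IsScalarTower R A V := IsScalarTower.of_algebraMap_smul fun _ _ => rfl
    haveI : IsScalarTower R A W := IsScalarTower.of_algebraMap_smul fun _ _ => rfl
    ∀ w : (A ⊗[R] S) ⊗[A] V, bcAddEquiv' φ ψ W (g.lTensor (A ⊗[R] S) w) =
      (g.restrictScalars R).lTensor S (bcAddEquiv' φ ψ V w) := by
  letI := φ.toAlgebra
  letI := ψ.toAlgebra
  letI : Module R V := Module.compHom V φ
  letI : Module R W := Module.compHom W φ
  haveI : IsScalarTower R A V := IsScalarTower.of_algebraMap_smul fun _ _ => rfl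
  haveI : IsScalarTower R A W := IsScalarTower.of_algebraMap_smul fun _ _ => rfl
  intro w
  induction w using TensorProduct.induction_on with
  | zero => simp
  | add x y hx hy => simp only [map_add, hx, hy]
  | tmul t m =>
    induction t using TensorProduct.induction_on with
    | zero => simp
    | add x y hx hy => simp only [TensorProduct.add_tmul, map_add, hx, hy]
    | tmul a s' => simp [bcAddEquiv'_tmul]

lemma mulSrc_inS (M : ModuleCat.{u} A) (s : S) (z : (extF (inA φ ψ) ⋙ resF (inS φ ψ)).obj M) :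
    (s • z : (extF (inA φ ψ) ⋙ resF (inS φ ψ)).obj M) = mulSrc φ ψ M (inS φ ψ s) z := rfl

lemma bcAddEquiv_apply (M : ModuleCat.{u} A) (z : Src φ ψ M) :
    letI := φ.toAlgebra
    letI := ψ.toAlgebra
    bcAddEquiv φ ψ M z = bcAddEquiv' φ ψ M (TensorProduct.congr (e₀ φ ψ) (LinearEquiv.refl A M) z) := rfl

lemma inS_apply (s : S) :
    letI := φ.toAlgebra
    letI := ψ.toAlgebra
    inS φ ψ s = ((1 : A) ⊗ₜ[R] s : A ⊗[R] S) := rfl

lemma smul_target (M : ModuleCat.{u} A) (s : S) :
    letI := φ.toAlgebra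
    letI := ψ.toAlgebra
    letI : Module R M := Module.compHom M φ
    ∀ w : S ⊗[R] M, (s • (show (resF φ ⋙ extF ψ).obj M from w) : (resF φ ⋙ extF ψ).obj M) = (s • w : S ⊗[R] M) :=
  fun _ => rfl

lemma bcAddEquiv_smul (M : ModuleCat.{u} A) (s : S)
    (z : (extF (inA φ ψ) ⋙ resF (inS φ ψ)).obj M) :
    bcAddEquiv φ ψ M (s • z) = s • bcAddEquiv φ ψ M z := by
  letI := φ.toAlgebra
  letI := ψ.toAlgebra
  refine (congrArg (bcAddEquiv φ ψ M) (mulSrc_inS φ ψ M s z)).trans ?_
  refine (bcAddEquiv_apply φ ψ M _).trans ?_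
  refine (congrArg (bcAddEquiv' φ ψ M) (congr_mulSrc φ ψ M (inS φ ψ s) z)).trans ?_
  refine (congrArg (fun c : A ⊗[R] S => bcAddEquiv' φ ψ M (c • _)) (inS_apply φ ψ s)).trans ?_
  refine (bcAddEquiv'_smul φ ψ M s _).trans ?_
  refine (smul_target φ ψ M s _).symm.trans ?_
  exact congrArg (fun v : (resF φ ⋙ extF ψ).obj M => s • v) (bcAddEquiv_apply φ ψ M z).symm

lemma bcAddEquiv_natural {M N : ModuleCat.{u} A} (g : M ⟶ N)
    (z : (extF (inA φ ψ) ⋙ resF (inS φ ψ)).obj M) :
    bcAddEquiv φ ψ N ((extF (inA φ ψ) ⋙ resF (inS φ ψ)).map g z) =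
      (resF φ ⋙ extF ψ).map g (bcAddEquiv φ ψ M z) := by
  letI := φ.toAlgebra
  letI := ψ.toAlgebra
  exact (congrArg (bcAddEquiv' φ ψ N) (congr_lTensor φ ψ g z)).trans
    (bcAddEquiv'_natural φ ψ g.hom _)

/-- Base change commutes with restriction of scalars. -/
noncomputable def bcIso : extF (inA φ ψ) ⋙ resF (inS φ ψ) ≅ resF φ ⋙ extF ψ :=
  NatIso.ofComponents
    (fun M => LinearEquiv.toModuleIso (R := S)
      (m₁ := ((extF (inA φ ψ) ⋙ resF (inS φ ψ)).obj M).isModule)
      (m₂ := ((resF φ ⋙ extF ψ).obj M).isModule)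
      { bcAddEquiv φ ψ M with map_smul' := bcAddEquiv_smul φ ψ M })
    (fun {M N} g => ModuleCat.hom_ext (LinearMap.ext (bcAddEquiv_natural φ ψ g)))

/-- Tor amplitude after a base change keeping tor amplitude and a further flat extension of the total ring. -/
theorem bdd_res_ext_of (θ : TP φ ψ →+* L) (hθ : θ.Flat) {F : DRing.Cx A} {a b : ℤ}
    (hE : Bdd (flat S) a b (DerivedCategory.Q.obj ((extC ψ).obj ((resC φ).obj F)))) :
    Bdd (flat S) a b (DerivedCategory.Q.obj
      ((resC (θ.comp (inS φ ψ))).obj ((extC (θ.comp (inA φ ψ))).obj F))) := by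
  let iA : A →+* TP φ ψ := inA φ ψ
  let iS : S →+* TP φ ψ := inS φ ψ
  let P : DRing.Cx (TP φ ψ) := (extC iA).obj F
  have hP : Bdd (flat S) a b (DerivedCategory.Q.obj ((resC iS).obj P)) :=
    Bdd.of_iso hE (DerivedCategory.Q.mapIso
      ((NatIso.mapHomologicalComplex (bcIso φ ψ).symm (ComplexShape.up ℤ)).app F))
  let C₀ : DRing.Cx L := 𝟙_ _
  let T : DRing.Cx (TP φ ψ) := (resC θ).obj C₀
  have hT : ∀ i, i < 0 ∨ 0 < i → IsZero (T.X i) := fun i hi =>
    (resF θ).map_isZero (isZero_single_obj_X _ _ _ _ (by omega))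
  have hTf : ∀ i, flat (TP φ ψ) (T.X i) := fun i => by
    rcases eq_or_ne i 0 with rfl | hne
    · refine good_flat.iso ((resF θ).mapIso
        (singleObjXSelf (ComplexShape.up ℤ) 0 (𝟙_ (ModuleCat.{u} L)))).symm ?_
      exact hθ
    · exact good_flat.zero (hT i (by omega))
  have h := bdd_res_tensor iS hT hTf hP
  rw [add_zero, add_zero] at h
  let i₁ : (resC θ).obj ((extC θ).obj P) ≅ P ⊗ T :=
    (resC θ).mapIso (λ_ _).symm ≪≫ projCxIso θ C₀ P ≪≫ DerivedOX.StalkCx.commCx _ _
  let i₂ : (extC θ).obj P ≅ (extC (θ.comp iA)).obj F :=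
    (NatIso.mapHomologicalComplex (ModuleCat.extendScalarsComp iA θ).symm (ComplexShape.up ℤ)).app F
  exact Bdd.of_iso h (DerivedCategory.Q.mapIso ((resC iS).mapIso i₁.symm ≪≫
    (NatIso.mapHomologicalComplex
      (ModuleCat.restrictScalarsComp'.{u} iS θ (θ.comp iS) rfl).symm (ComplexShape.up ℤ)).app _ ≪≫
    (resC (θ.comp iS)).mapIso i₂))

/-- Tor amplitude after a flat base change and a further flat extension of the total ring. -/
theorem bdd_res_ext (hψ : ψ.Flat) (θ : TP φ ψ →+* L) (hθ : θ.Flat) {F : DRing.Cx A} {a b : ℤ}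
    (hF : Bdd (flat R) a b (DerivedCategory.Q.obj ((resC φ).obj F))) :
    Bdd (flat S) a b (DerivedCategory.Q.obj
      ((resC (θ.comp (inS φ ψ))).obj ((extC (θ.comp (inA φ ψ))).obj F))) := by
  haveI : PreservesFiniteLimits (extF ψ) := ModuleCat.preservesFiniteLimits_extendScalars_of_flat hψ
  haveI : PreservesFiniteColimits (extF ψ) :=
    haveI : PreservesColimitsOfSize.{0, 0} (extF ψ) :=
      (ModuleCat.extendRestrictScalarsAdj.{u} ψ).leftAdjoint_preservesColimits
    PreservesColimitsOfSize.preservesFiniteColimits _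
  exact bdd_res_ext_of φ ψ θ hθ (Bdd.of_iso (ExactPush.bdd_map (P' := flat S) (extF ψ)
      (fun M (hM : flat R M) => ext_flat ψ M hM) hF) (ExactPush.mapQ (extF ψ) _))

end Algebra

variable {X Y Y' : Scheme.{u}} (f : X ⟶ Y) (h : Y' ⟶ Y)

/-- Tor amplitude of a pulled back complex under a flat base change. -/
theorem torAmpAt_pb_baseChange [Flat h] (P : CochainComplex X.Modules ℤ) {a b : ℤ} (x' : ↥(pullback f h))
    (hP : DerSch.HasTorAmplitudeAt f a b P (pullback.fst f h x')) :
    DerSch.HasTorAmplitudeAt (pullback.snd f h) a b ((pbC (pullback.fst f h)).obj P) x' := by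
  obtain ⟨θ, hθ, hA, hS⟩ := StalkTensor.exists_flat_map (IsPullback.of_hasPullback f h) x'
  have hb := bdd_res_ext (f.stalkMap (pullback.fst f h x')).hom (StalkTensor.baseMap (IsPullback.of_hasPullback f h) x')
    (StalkTensor.baseMap_flat (IsPullback.of_hasPullback f h) x') θ hθ (F := (stC (pullback.fst f h x')).obj P)
    ((torAmpAt_iff f _ P a b).1 hP)
  rw [hA, hS] at hb
  exact (torAmpAt_iff _ x' _ a b).2 (Bdd.of_iso hb (DerivedCategory.Q.mapIso
    ((resC ((pullback.snd f h).stalkMap x').hom).mapIso (stalkPbIso (pullback.fst f h) x' P))))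

/-- Flat base change preserves tor amplitude. -/
theorem torAmpD_baseChange [Flat h] [DCoh.HasLpull (pullback.fst f h)] (F : CochainComplex X.Modules ℤ)
    {a b : ℤ} (hF : DerSch.HasTorAmplitude f a b F) :
    DerSch.HasTorAmplitudeD (pullback.snd f h) a b ((DCoh.Lpull (pullback.fst f h)).obj (DCoh.toD X F)) := by
  let P := (KFlat.res X).obj F
  haveI : QuasiIso ((KFlat.aug X).app F) := KFlat.quasiIso_aug F
  let eP : DCoh.toD X P ≅ DCoh.toD X F := asIso (DerivedCategory.Q.map ((KFlat.aug X).app F))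
  obtain ⟨e⟩ := nonempty_lpull_iso (pullback.fst f h) (KFlat.isKFlat_res F)
  exact torAmpD_of _ ((DCoh.Lpull (pullback.fst f h)).mapIso eP.symm ≪≫ e) fun x' =>
    torAmpAt_pb_baseChange f h P x' (torAmpAt_of_iso f _ eP.symm (hF _))

end Groth.Agent.Lib.BettiExact.TorBaseChange
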