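import Groth.Agent.Lib.BettiExact.TorTensor
import Groth.Agent.Lib.BettiExact.TorComp
import Groth.Agent.Lib.DerivedOX.PullTensor
import Groth.Agent.Lib.DerivedOX.PullbackStalk

/-!
# Tor amplitude of derived pullbacks tensored with a complex
-/

set_option autoImplicit false
set_option linter.style.haveILetI false

universe u

open CategoryTheory Limits AlgebraicGeometry HomologicalComplex MonoidalCategory

attribute [local instance] HasDerivedCategory.standard

namespace Groth.Agent.Lib.BettiExact.TorPull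

open Groth.Agent.Lib Groth.Agent.Lib.DR Groth.Agent.Lib.DR.Basic Groth.Agent.Lib.DR.FiniteComplex
  Groth.Agent.Lib.DR.PseudoCoherent Groth.Agent.Lib.DR.BaseChange
open Groth.Agent.Lib.DerivedOX Groth.Agent.Lib.Modules StalkModule TorTensor KFlatBaseChange
open StalkCx (commCx derStalkIso)

variable {X Y Z : Scheme.{u}}

/-- The complex of stalks. -/
noncomputable abbrev stC (x : X) : CochainComplex X.Modules ℤ ⥤ DRing.Cx (X.presheaf.stalk x) :=
  (stalkModFunctor X x).mapHomologicalComplex (ComplexShape.up ℤ)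

/-- Termwise pullback. -/
noncomputable abbrev pbC (f : X ⟶ Y) : CochainComplex Y.Modules ℤ ⥤ CochainComplex X.Modules ℤ :=
  (Scheme.Modules.pullback f).mapHomologicalComplex (ComplexShape.up ℤ)

/-- The complex of stalks over the base. -/
noncomputable def stOverIso (f : X ⟶ Y) (x : X) (F : CochainComplex X.Modules ℤ) :
    (resC (f.stalkMap x).hom).obj ((stC x).obj F) ≅ (DerSch.stalkCxOver f x).obj F :=
  (NatIso.mapHomologicalComplex
    (Functor.isoWhiskerRight (derStalkIso x).symm (ModuleCat.restrictScalars (f.stalkMap x).hom))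
    (ComplexShape.up ℤ)).app F

theorem torAmpAt_iff (f : X ⟶ Y) (x : X) (F : CochainComplex X.Modules ℤ) (a b : ℤ) :
    DerSch.HasTorAmplitudeAt f a b F x ↔
      Bdd (flat (Y.presheaf.stalk (f x))) a b
        (DerivedCategory.Q.obj ((resC (f.stalkMap x).hom).obj ((stC x).obj F))) :=
  ⟨fun h => Bdd.of_iso h (DerivedCategory.Q.mapIso (stOverIso f x F)).symm,
    fun h => Bdd.of_iso h (DerivedCategory.Q.mapIso (stOverIso f x F))⟩

/-- Stalkwise tor amplitude depends on the object of the derived category only. -/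
theorem torAmpAt_of_iso (f : X ⟶ Y) (x : X) {F F' : CochainComplex X.Modules ℤ}
    (e : DCoh.toD X F ≅ DCoh.toD X F') {a b : ℤ} (h : DerSch.HasTorAmplitudeAt f a b F x) :
    DerSch.HasTorAmplitudeAt f a b F' x := by
  haveI : PreservesFiniteColimits (stalkModFunctor X x) :=
    PreservesColimitsOfSize.preservesFiniteColimits _
  let eS := (ExactPush.mapQ (stalkModFunctor X x) F).symm ≪≫
    (stalkModFunctor X x).mapDerivedCategory.mapIso e ≪≫ ExactPush.mapQ (stalkModFunctor X x) F'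
  exact (torAmpAt_iff f x F' a b).2 (Bdd.of_iso ((torAmpAt_iff f x F a b).1 h)
    ((ExactPush.mapQ (resF (f.stalkMap x).hom) _).symm ≪≫
      (resF (f.stalkMap x).hom).mapDerivedCategory.mapIso eS ≪≫ ExactPush.mapQ (resF (f.stalkMap x).hom) _))

/-- A form of `torAmpAt_of_iso` for representatives. -/
theorem torAmpD_of (f : X ⟶ Y) {K : DCoh.D X} {W : CochainComplex X.Modules ℤ}
    (e : K ≅ DCoh.toD X W) {a b : ℤ} (h : DerSch.HasTorAmplitude f a b W) :
    DerSch.HasTorAmplitudeD f a b K := fun _ ⟨e'⟩ x =>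
  torAmpAt_of_iso f x (e' ≪≫ e).symm (h x)

/-- The stalks of a pulled back complex. -/
noncomputable def stalkPbIso (f : X ⟶ Y) (x : X) (P : CochainComplex Y.Modules ℤ) :
    (extC (f.stalkMap x).hom).obj ((stC (f x)).obj P) ≅ (stC x).obj ((pbC f).obj P) :=
  (NatIso.mapHomologicalComplex (PullbackStalk.pullbackStalkIso f x) (ComplexShape.up ℤ)).app P

/-- The stalks of `f^* P ⊗ F` over the local ring of the base. -/
noncomputable def stalkTensorPbIso (f : X ⟶ Y) (x : X) (P : CochainComplex Y.Modules ℤ)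
    (F : CochainComplex X.Modules ℤ) :
    (resC (f.stalkMap x).hom).obj ((stC x).obj ((DCoh.tensorCx.obj ((pbC f).obj P)).obj F)) ≅
      (resC (f.stalkMap x).hom).obj ((stC x).obj F) ⊗ (stC (f x)).obj P :=
  (resC (f.stalkMap x).hom).mapIso ((StalkCx.tensorIso x ((pbC f).obj P) F).symm ≪≫
    commCx _ _ ≪≫ whiskerLeftIso _ (stalkPbIso f x P).symm) ≪≫ projCxIso (f.stalkMap x).hom _ _

/-- A flat representative of the left factor of a tensor product with a K-flat complex. -/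
theorem exists_flat_tensor_iso {B : Type u} [CommRing B] {F P : DRing.Cx B} {a b : ℤ}
    (hP : DRing.IsKFlat B P) (hF : Bdd (flat B) a b (DerivedCategory.Q.obj F)) :
    ∃ T : DRing.Cx B, (∀ i, i < a ∨ b < i → IsZero (T.X i)) ∧ (∀ i, flat B (T.X i)) ∧
      Nonempty (DerivedCategory.Q.obj (P ⊗ T) ≅ DerivedCategory.Q.obj (F ⊗ P)) := by
  obtain ⟨T, hT, hTf, ⟨e⟩⟩ := hF
  let R := (KProjRes.res B).obj T
  let t : R ⟶ T := (KProjRes.aug B).app T
  haveI : QuasiIso t := KProjRes.quasiIso_aug B T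
  haveI : IsIso (DerivedCategory.Q.map t) :=
    Localization.inverts DerivedCategory.Q (quasiIso (ModuleCat.{u} B) (.up ℤ)) t ‹QuasiIso t›
  obtain ⟨r, hr⟩ := exists_Q_map_eq (DerivedCategory.Q.map t ≫ e.hom)
  haveI : IsIso (DerivedCategory.Q.map r) := hr ▸ inferInstance
  haveI : QuasiIso r := (DerivedCategory.isIso_Q_map_iff_quasiIso (ModuleCat B) r).1 inferInstance
  haveI h₁ := quasiIso_whiskerRight hP t
  haveI h₂ := quasiIso_whiskerRight hP r
  let u₁ := asIso (DerivedCategory.Q.map (((KFlat.tcx B).flip.obj P).map t))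
  let u₂ := asIso (DerivedCategory.Q.map (((KFlat.tcx B).flip.obj P).map r))
  exact ⟨T, hT, hTf, ⟨DerivedCategory.Q.mapIso (commCx P T) ≪≫ u₁.symm ≪≫ u₂⟩⟩

/-- Replacing a complex over the intermediate ring by a flat representative. -/
theorem bdd_res_tensor_of_bdd {A B : Type u} [CommRing A] [CommRing B] (φ : A →+* B)
    {F P : DRing.Cx B} {a b c d : ℤ} (hP : DRing.IsKFlat B P)
    (hF : Bdd (flat B) a b (DerivedCategory.Q.obj F))
    (hPA : Bdd (flat A) c d (DerivedCategory.Q.obj ((resC φ).obj P))) :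
    Bdd (flat A) (c + a) (d + b) (DerivedCategory.Q.obj ((resC φ).obj (F ⊗ P))) := by
  obtain ⟨T, hT, hTf, ⟨eB⟩⟩ := exists_flat_tensor_iso hP hF
  exact Bdd.of_iso (bdd_res_tensor φ hT hTf hPA)
    ((ExactPush.mapQ (resF φ) _).symm ≪≫ (resF φ).mapDerivedCategory.mapIso eB ≪≫
      ExactPush.mapQ (resF φ) _)

/-- Exactness of a tensor product with a complex of bounded flat amplitude. -/
theorem exactAt_tensor_of_amp {B : Type u} [CommRing B] {F P : DRing.Cx B} {a b c d : ℤ}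
    (hP : DRing.IsKFlat B P) (hPe : ∀ i, i < c ∨ d < i → P.ExactAt i)
    (hF : Bdd (flat B) a b (DerivedCategory.Q.obj F)) (i : ℤ) (hi : i < c + a ∨ d + b < i) :
    (F ⊗ P).ExactAt i := by
  obtain ⟨T, hT, hTf, ⟨eB⟩⟩ := exists_flat_tensor_iso hP hF
  have h : (P ⊗ T).ExactAt i := by
    rcases hi with hi | hi
    · exact exactAt_tensor_below (fun j hj => hPe j (Or.inl hj)) hT hTf i hi
    · exact exactAt_tensor_above (fun j hj => hPe j (Or.inr hj)) (fun j hj => hT j (Or.inr hj)) hTf i hi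
  exact (exactAt_iff_isZero_homology _ _).2 (((exactAt_iff_isZero_homology _ _).1 h).of_iso
    ((homologyQIso _ _).symm ≪≫ (DerivedCategory.homologyFunctor _ i).mapIso eB.symm ≪≫ homologyQIso _ _))

/-- Restriction of stalks along a composite. -/
noncomputable def stOverCompIso (f : X ⟶ Y) (g : Y ⟶ Z) (x : X) (W : CochainComplex X.Modules ℤ) :
    (resC (g.stalkMap (f x)).hom).obj ((resC (f.stalkMap x).hom).obj ((stC x).obj W)) ≅
      (resC ((f ≫ g).stalkMap x).hom).obj ((stC x).obj W) :=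
  let χ : Z.presheaf.stalk (g (f x)) →+* X.presheaf.stalk x := ((f ≫ g).stalkMap x).hom
  have hχ : χ = (f.stalkMap x).hom.comp (g.stalkMap (f x)).hom :=
    (congrArg (fun t => CommRingCat.Hom.hom t) (Scheme.Hom.stalkMap_comp f g x)).trans rfl
  (NatIso.mapHomologicalComplex
    (ModuleCat.restrictScalarsComp' (g.stalkMap (f x)).hom (f.stalkMap x).hom χ hχ).symm
    (ComplexShape.up ℤ)).app ((stC x).obj W)

variable (f : X ⟶ Y)

/-- Tor amplitude of `f^* P ⊗ F` for K-flat `P`. -/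
theorem torAmpAt_pb_tensor (g : Y ⟶ Z) {P : CochainComplex Y.Modules ℤ} (hP : DCoh.IsKFlat P)
    (F : CochainComplex X.Modules ℤ) {a b c d : ℤ} (x : X) (hF : DerSch.HasTorAmplitudeAt f a b F x)
    (hPA : DerSch.HasTorAmplitudeAt g c d P (f x)) :
    DerSch.HasTorAmplitudeAt (f ≫ g) (a + c) (b + d) ((DCoh.tensorCx.obj ((pbC f).obj P)).obj F) x := by
  have h := bdd_res_tensor_of_bdd (g.stalkMap (f x)).hom ((KFlatStalk.isKFlat_iff_stalk P).1 hP (f x))
    ((torAmpAt_iff f x F a b).1 hF) ((torAmpAt_iff g (f x) P c d).1 hPA)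
  rw [add_comm c a, add_comm d b] at h
  exact (torAmpAt_iff (f ≫ g) x _ _ _).2 (Bdd.of_iso h (DerivedCategory.Q.mapIso
    ((resC (g.stalkMap (f x)).hom).mapIso (stalkTensorPbIso f x P F).symm ≪≫ stOverCompIso f g x _)))

/-- `Lf^*` of a K-flat complex. -/
theorem nonempty_lpull_iso [DCoh.HasLpull f] {P : CochainComplex Y.Modules ℤ} (hP : DCoh.IsKFlat P) :
    Nonempty ((DCoh.Lpull f).obj (DCoh.toD Y P) ≅ DCoh.toD X ((pbC f).obj P)) := by
  haveI := PullPushAdj.isIso_counit_app_of_isKFlat f (DCoh.Lpull f)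
    ((PullPushAdj.pullK f).totalLeftDerivedCounit DerivedCategory.Qh _) hP
  exact ⟨(DCoh.Lpull f).mapIso ((DerivedCategory.quotientCompQhIso Y.Modules).app P).symm ≪≫
    asIso (((PullPushAdj.pullK f).totalLeftDerivedCounit DerivedCategory.Qh
      (HomotopyCategory.quasiIso Y.Modules (.up ℤ))).app
        ((HomotopyCategory.quotient Y.Modules (.up ℤ)).obj P)) ≪≫
    (LeftExists.onCxIso (Scheme.Modules.pullback f)).app P⟩

/-- `Lf^* K ⊗^L F` computed on a K-flat representative. -/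
theorem nonempty_ltensor_lpull_iso [DCoh.HasLpull f] (F : CochainComplex X.Modules ℤ) [DCoh.HasLTensorCx F]
    {P : CochainComplex Y.Modules ℤ} (hP : DCoh.IsKFlat P) :
    Nonempty ((DCoh.LTensorCx F).obj ((DCoh.Lpull f).obj (DCoh.toD Y P)) ≅
      DCoh.toD X ((DCoh.tensorCx.obj ((pbC f).obj P)).obj F)) := by
  obtain ⟨e⟩ := nonempty_lpull_iso f hP
  haveI := TensorCoprod.isIso_counit_app_of_isKFlat F (DCoh.LTensorCx F)
    ((DCoh.tensorCxQ F).totalLeftDerivedCounit DerivedCategory.Q _) (KFlatPullback.isKFlat_pullback f hP)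
  exact ⟨(DCoh.LTensorCx F).mapIso e ≪≫
    asIso (((DCoh.tensorCxQ F).totalLeftDerivedCounit DerivedCategory.Q
      (HomologicalComplex.quasiIso X.Modules (.up ℤ))).app ((pbC f).obj P))⟩

/-- Tor amplitude of `Lf^* G ⊗^L F`. -/
theorem torAmpD_ltensor_lpull (g : Y ⟶ Z) (F : CochainComplex X.Modules ℤ) {a b c d : ℤ}
    (hF : DerSch.HasTorAmplitude f a b F) (G : CochainComplex Y.Modules ℤ)
    (hG : DerSch.HasTorAmplitude g c d G) [DCoh.HasLpull f] [DCoh.HasLTensorCx F] :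
    DerSch.HasTorAmplitudeD (f ≫ g) (a + c) (b + d)
      ((DCoh.LTensorCx F).obj ((DCoh.Lpull f).obj (DCoh.toD Y G))) := by
  let P := (KFlat.res Y).obj G
  have hP : DCoh.IsKFlat P := KFlat.isKFlat_res G
  haveI : QuasiIso ((KFlat.aug Y).app G) := KFlat.quasiIso_aug G
  let eP : DCoh.toD Y P ≅ DCoh.toD Y G := asIso (DerivedCategory.Q.map ((KFlat.aug Y).app G))
  obtain ⟨e⟩ := nonempty_ltensor_lpull_iso f F hP
  exact torAmpD_of _ ((DCoh.LTensorCx F).mapIso ((DCoh.Lpull f).mapIso eP.symm) ≪≫ e) fun x =>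
    torAmpAt_pb_tensor f g hP F x (hF x) (torAmpAt_of_iso g (f x) eP.symm (hG (f x)))

/-- Tor amplitude of `Lf^* G`. -/
theorem torAmpD_lpull (g : Y ⟶ Z) (m : ℕ) (hf : DerSch.HasTorDimLE f m) (G : CochainComplex Y.Modules ℤ)
    {c d : ℤ} (hG : DerSch.HasTorAmplitude g c d G) [DCoh.HasLpull f] :
    DerSch.HasTorAmplitudeD (f ≫ g) (c - m) d ((DCoh.Lpull f).obj (DCoh.toD Y G)) := by
  let P := (KFlat.res Y).obj G
  have hP : DCoh.IsKFlat P := KFlat.isKFlat_res G
  haveI : QuasiIso ((KFlat.aug Y).app G) := KFlat.quasiIso_aug G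
  let eP : DCoh.toD Y P ≅ DCoh.toD Y G := asIso (DerivedCategory.Q.map ((KFlat.aug Y).app G))
  obtain ⟨e⟩ := nonempty_lpull_iso f hP
  refine torAmpD_of _ ((DCoh.Lpull f).mapIso eP.symm ≪≫ e) fun x => ?_
  let φ : Z.presheaf.stalk (g (f x)) →+* Y.presheaf.stalk (f x) := (g.stalkMap (f x)).hom
  let ψ : Y.presheaf.stalk (f x) →+* X.presheaf.stalk x := (f.stalkMap x).hom
  letI : Algebra (Y.presheaf.stalk (f x)) (X.presheaf.stalk x) := ψ.toAlgebra
  let C₀ : DRing.Cx (X.presheaf.stalk x) := 𝟙_ _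
  have hC : Bdd (flat (Y.presheaf.stalk (f x))) (-(m : ℤ)) 0 (DerivedCategory.Q.obj ((resC ψ).obj C₀)) :=
    Bdd.of_iso (TorComp.bdd_unit f m hf x) (((DerivedCategory.singleFunctorIsoCompQ _ 0).app _) ≪≫
      DerivedCategory.Q.mapIso ((singleMapHomologicalComplex (resF ψ) (ComplexShape.up ℤ) 0).app
        (𝟙_ (ModuleCat.{u} (X.presheaf.stalk x)))).symm)
  have h := bdd_res_tensor_of_bdd φ ((KFlatStalk.isKFlat_iff_stalk P).1 hP (f x)) hC
    ((torAmpAt_iff g (f x) P c d).1 (torAmpAt_of_iso g (f x) eP.symm (hG (f x))))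
  rw [add_zero, ← sub_eq_add_neg] at h
  let i : (resC ψ).obj ((stC x).obj ((pbC f).obj P)) ≅ (resC ψ).obj C₀ ⊗ (stC (f x)).obj P :=
    (resC ψ).mapIso ((stalkPbIso f x P).symm ≪≫ (λ_ _).symm) ≪≫ projCxIso ψ C₀ _
  exact (torAmpAt_iff (f ≫ g) x _ _ _).2 (Bdd.of_iso h (DerivedCategory.Q.mapIso
    ((resC φ).mapIso i.symm ≪≫ stOverCompIso f g x _)))

/-- Cohomology sheaves of `Lf^* M ⊗^L F` for `F` of bounded tor amplitude. -/
theorem isZero_HD_ltensor_lpull (F : CochainComplex X.Modules ℤ) {a b : ℤ}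
    (hF : DerSch.HasTorAmplitude f a b F) (M : Y.Modules) [DCoh.HasLpull f] [DCoh.HasLTensorCx F]
    (i : ℤ) (hi : i < a ∨ b < i) :
    IsZero (DCoh.HD ((DCoh.LTensorCx F).obj ((DCoh.Lpull f).obj (DCoh.inD Y M))) i) := by
  let M₀ := (single Y.Modules (ComplexShape.up ℤ) 0).obj M
  let P := (KFlat.res Y).obj M₀
  have hP : DCoh.IsKFlat P := KFlat.isKFlat_res M₀
  haveI : QuasiIso ((KFlat.aug Y).app M₀) := KFlat.quasiIso_aug M₀
  let eP : DCoh.toD Y P ≅ DCoh.inD Y M := asIso (DerivedCategory.Q.map ((KFlat.aug Y).app M₀)) ≪≫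
    ((DerivedCategory.singleFunctorIsoCompQ _ 0).app M).symm
  obtain ⟨e⟩ := nonempty_ltensor_lpull_iso f F hP
  have hPe : ∀ j : ℤ, j < 0 ∨ 0 < j → P.ExactAt j := fun j hj =>
    (exactAt_iff_of_quasiIsoAt ((KFlat.aug Y).app M₀) j).2
      (ExactAt.of_isZero (isZero_single_obj_X _ _ _ _ (by omega)))
  have hW : ((DCoh.tensorCx.obj ((pbC f).obj P)).obj F).ExactAt i := by
    refine (Amplitude.exactAt_iff_stalk _ i).2 fun x => (exactAt_resC_iff (f.stalkMap x).hom _ i).1 ?_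
    refine (exactAt_congr (stalkTensorPbIso f x P F) i).2 ?_
    exact exactAt_tensor_of_amp ((KFlatStalk.isKFlat_iff_stalk P).1 hP (f x))
      (fun j hj => (Amplitude.exactAt_iff_stalk P j).1 (hPe j hj) (f x))
      ((torAmpAt_iff f x F a b).1 (hF x)) i (by omega)
  exact ((exactAt_iff_isZero_homology _ _).1 hW).of_iso
    ((DerivedCategory.homologyFunctor X.Modules i).mapIso
      ((DCoh.LTensorCx F).mapIso ((DCoh.Lpull f).mapIso eP.symm) ≪≫ e) ≪≫ homologyQIso _ _)

end Groth.Agent.Lib.BettiExact.TorPull
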