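import Groth.Agent.Lib.BettiExact.TensorExact
import Groth.Agent.Lib.DerivedOX.TensorCoprod
import Groth.Agent.Lib.DerivedOX.Amplitude

/-!
# `H^p(M[0] ⊗^L F)` computed by a flat resolution of `F`
-/

set_option autoImplicit false
set_option linter.style.haveILetI false

universe u

open CategoryTheory Limits AlgebraicGeometry HomologicalComplex

attribute [local instance] HasDerivedCategory.standard

namespace Groth.Agent.Lib.BettiExact.Derived

open Groth.Agent.Lib.DerivedOX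

variable {X : Scheme.{u}} (F : CochainComplex X.Modules ℤ) [DCoh.HasLTensorCx F]
  {P : CochainComplex X.Modules ℤ} (s : P ⟶ F) [QuasiIso s] (hP : DCoh.IsKFlat P)

include s hP in
/-- `H^p(M[0] ⊗^L F) ≅ H^p(M ⊗ P)`, naturally in `M`. -/
theorem nonempty_iso (p : ℤ) :
    Nonempty (DerivedCategory.singleFunctor X.Modules 0 ⋙ DCoh.LTensorCx F ⋙
      DerivedCategory.homologyFunctor X.Modules p ≅ TensorExact.HP P p) := by
  let Q := DerivedCategory.Q (C := X.Modules)
  let W := HomologicalComplex.quasiIso X.Modules (ComplexShape.up ℤ)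
  let T := DCoh.LTensorCx F
  let α : Q ⋙ T ⟶ DCoh.tensorCxQ F := (DCoh.tensorCxQ F).totalLeftDerivedCounit Q W
  let S := HomologicalComplex.single X.Modules (ComplexShape.up ℤ) 0
  let R := S ⋙ KFlat.res X
  let η₁ : R ⋙ Q ⋙ T ⟶ S ⋙ Q ⋙ T :=
    Functor.whiskerRight (Functor.whiskerLeft S (KFlat.aug X)) (Q ⋙ T)
  let η₂ : R ⋙ Q ⋙ T ⟶ R ⋙ DCoh.tensorCxQ F := Functor.whiskerLeft R α
  let η₃ : R ⋙ DCoh.tensorCxQ P ⟶ R ⋙ DCoh.tensorCxQ F :=
    Functor.whiskerLeft R (Functor.whiskerRight ((DCoh.tensorCx (X := X)).flip.map s) Q)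
  let η₄ : R ⋙ DCoh.tensorCxQ P ⟶ S ⋙ DCoh.tensorCxQ P :=
    Functor.whiskerRight (Functor.whiskerLeft S (KFlat.aug X)) (DCoh.tensorCxQ P)
  have h₁ : ∀ M, IsIso (η₁.app M) := fun M => by
    haveI : QuasiIso ((KFlat.aug X).app (S.obj M)) := KFlat.quasiIso_aug _
    haveI : IsIso (Q.map ((KFlat.aug X).app (S.obj M))) := inferInstance
    exact inferInstanceAs (IsIso (T.map (Q.map ((KFlat.aug X).app (S.obj M)))))
  have h₂ : ∀ M, IsIso (η₂.app M) := fun M =>
    TensorCoprod.isIso_counit_app_of_isKFlat F T α (KFlat.isKFlat_res (S.obj M))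
  have h₃ : ∀ M, IsIso (η₃.app M) := fun M => by
    haveI := TensorQis.quasiIso_left (KFlat.isKFlat_res (S.obj M)) s
    exact inferInstanceAs (IsIso (Q.map ((DCoh.tensorCx.obj ((KFlat.res X).obj (S.obj M))).map s)))
  have h₄ : ∀ M, IsIso (η₄.app M) := fun M => by
    haveI : QuasiIso ((KFlat.aug X).app (S.obj M)) := KFlat.quasiIso_aug _
    haveI := LeftExists.quasiIso_tensor_right hP ((KFlat.aug X).app (S.obj M))
    exact inferInstanceAs (IsIso (Q.map ((DCoh.tensorCx.map ((KFlat.aug X).app (S.obj M))).app P)))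
  haveI := NatIso.isIso_of_isIso_app η₁
  haveI := NatIso.isIso_of_isIso_app η₂
  haveI := NatIso.isIso_of_isIso_app η₃
  haveI := NatIso.isIso_of_isIso_app η₄
  let e : S ⋙ Q ⋙ T ≅ S ⋙ DCoh.tensorCxQ P :=
    (asIso η₁).symm ≪≫ asIso η₂ ≪≫ (asIso η₃).symm ≪≫ asIso η₄
  exact ⟨Functor.isoWhiskerRight (DerivedCategory.singleFunctorIsoCompQ X.Modules 0)
      (T ⋙ DerivedCategory.homologyFunctor X.Modules p) ≪≫
    Functor.isoWhiskerRight e (DerivedCategory.homologyFunctor X.Modules p) ≪≫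
    Functor.isoWhiskerLeft (S ⋙ (DCoh.tensorCx (X := X)).flip.obj P)
      (DerivedCategory.homologyFunctorFactors X.Modules p) ≪≫
    Functor.isoWhiskerRight (TensorExact.singleIso P).symm _⟩

end Groth.Agent.Lib.BettiExact.Derived
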