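import Groth.Agent.Lib.PushClosed.Unit
import Groth.Agent.Lib.DerivedOX.FlatTensor
import Groth.Agent.Lib.DerivedOX.TildeStalk
import Mathlib.RingTheory.Localization.Module

/-!
# Flatness tested on direct images from an affine open
-/

set_option autoImplicit false
set_option linter.style.haveILetI false

universe u

open CategoryTheory Limits AlgebraicGeometry
open scoped TensorProduct

namespace Groth.Agent.Lib.BettiExact.QFlat

open Groth.Agent.Lib Groth.Agent.Lib.DerivedOX Groth.Agent.Lib.Modules StalkModule

variable {X : Scheme.{u}}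

/-- If `g ⊗ C` is mono and `g` has stalk `f` at `x`, then `f ⊗ C_x` is injective. -/
theorem injective_rTensor_of_mono {G G' C : X.Modules} (g : G ⟶ G') (x : X) {A B : Type u}
    [AddCommGroup A] [AddCommGroup B] [Module (X.presheaf.stalk x) A] [Module (X.presheaf.stalk x) B]
    (f : A →ₗ[X.presheaf.stalk x] B) (eA : G.presheaf.stalk x ≃ₗ[X.presheaf.stalk x] A)
    (eB : G'.presheaf.stalk x ≃ₗ[X.presheaf.stalk x] B)
    (hnat : ∀ v, eB (stalkMapₗ g x v) = f (eA v))
    (h : Mono ((DCoh.tensorBi.map g).app C)) :
    Function.Injective (f.rTensor (C.presheaf.stalk x)) := by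
  have hinj : Function.Injective (stalkMapₗ ((DCoh.tensorBi.map g).app C) x) :=
    (StalkModule.mono_iff_stalkMapₗ_injective _).1 h x
  let TA := (TensorSheaf.tensorStalk x G C).trans (TensorProduct.congr eA (LinearEquiv.refl _ _))
  let TB := (TensorSheaf.tensorStalk x G' C).trans (TensorProduct.congr eB (LinearEquiv.refl _ _))
  have key : ∀ w, TB (stalkMapₗ ((DCoh.tensorBi.map g).app C) x w) =
      LinearMap.rTensor _ f (TA w) := fun w => by
    have h1 := TensorSheaf.tensorStalk_natural x g (𝟙 C) w
    rw [CategoryTheory.Functor.map_id, Category.comp_id, StalkModule.stalkMapₗ_id] at h1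
    refine (congrArg (TensorProduct.congr eB (LinearEquiv.refl _ _)) h1).trans ?_
    have lin : (TensorProduct.congr eB (LinearEquiv.refl _ (C.presheaf.stalk x))).toLinearMap ∘ₗ
        TensorProduct.map (stalkMapₗ g x) LinearMap.id =
          LinearMap.rTensor _ f ∘ₗ
            (TensorProduct.congr eA (LinearEquiv.refl _ (C.presheaf.stalk x))).toLinearMap :=
      TensorProduct.ext' fun a b => congrArg (fun t => t ⊗ₜ[X.presheaf.stalk x] b) (hnat a)
    exact LinearMap.congr_fun lin _
  intro u v huv
  obtain ⟨u', rfl⟩ := TA.surjective u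
  obtain ⟨v', rfl⟩ := TA.surjective v
  exact congrArg TA (hinj (TB.injective ((key u').trans (huv.trans (key v').symm))))

lemma isLocalized_toStalk {R : CommRingCat.{u}} (N : ModuleCat.{u} R) (y : PrimeSpectrum.Top R) :
    IsLocalizedModule y.asIdeal.primeCompl (tilde.toStalk N y).hom :=
  inferInstance

/-- A module whose tensor product preserves the monomorphisms pushed forward from an affine open is
flat on this open. -/
theorem isFlatAt_of_mono_push {R : CommRingCat.{u}} (j : Spec R ⟶ X) [IsOpenImmersion j] (q : Spec R)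
    {C : X.Modules}
    (h : ∀ ⦃M N : ModuleCat.{u} R⦄ (f : M ⟶ N), Mono f →
      Mono ((DCoh.tensorBi.map ((Scheme.Modules.pushforward j).map ((tilde.functor R).map f))).app C)) :
    FlatMod.IsFlatAt C (j q) := by
  let σ : X.presheaf.stalk (j q) ≃+* (Spec R).presheaf.stalk q :=
    (asIso (j.stalkMap q)).commRingCatIsoToRingEquiv
  refine Module.Flat.iff_rTensor_preserves_injective_linearMap.2 fun A B _ _ _ _ f hf => ?_
  let pc : Submonoid R := (show PrimeSpectrum.Top R from q).asIdeal.primeCompl
  letI : Algebra R ((Spec R).presheaf.stalk q) := StructureSheaf.stalkAlgebra R q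
  haveI : IsLocalization pc ((Spec R).presheaf.stalk q) := StructureSheaf.IsLocalization.to_stalk R q
  letI : Module ((Spec R).presheaf.stalk q) A := Module.compHom A σ.symm.toRingHom
  letI : Module ((Spec R).presheaf.stalk q) B := Module.compHom B σ.symm.toRingHom
  letI : Module R A := Module.compHom A (algebraMap R ((Spec R).presheaf.stalk q))
  letI : Module R B := Module.compHom B (algebraMap R ((Spec R).presheaf.stalk q))
  haveI : IsScalarTower R ((Spec R).presheaf.stalk q) A := .of_algebraMap_smul fun _ _ => rfl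
  haveI : IsScalarTower R ((Spec R).presheaf.stalk q) B := .of_algebraMap_smul fun _ _ => rfl
  let MA := ModuleCat.of R A
  let MB := ModuleCat.of R B
  let fR : MA ⟶ MB := ModuleCat.ofHom
    ({ toFun := f
       map_add' := f.map_add
       map_smul' := fun _ _ => f.map_smul _ _ } : A →ₗ[R] B)
  have hfR : Mono fR := (ModuleCat.mono_iff_injective _).2 hf
  haveI hlA : IsLocalizedModule pc (tilde.toStalk MA q).hom := isLocalized_toStalk MA q
  haveI hlB : IsLocalizedModule pc (tilde.toStalk MB q).hom := isLocalized_toStalk MB q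
  haveI : IsLocalizedModule pc (LinearMap.id : A →ₗ[R] A) :=
    isLocalizedModule_id pc A ((Spec R).presheaf.stalk q)
  haveI : IsLocalizedModule pc (LinearMap.id : B →ₗ[R] B) :=
    isLocalizedModule_id pc B ((Spec R).presheaf.stalk q)
  haveI : IsScalarTower R ((Spec R).presheaf.stalk q) ((tilde MA).presheaf.stalk q) :=
    .of_algebraMap_smul fun _ _ => rfl
  haveI : IsScalarTower R ((Spec R).presheaf.stalk q) ((tilde MB).presheaf.stalk q) :=
    .of_algebraMap_smul fun _ _ => rfl
  let εA : (tilde MA).presheaf.stalk q ≃ₗ[(Spec R).presheaf.stalk q] A :=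
    (IsLocalizedModule.linearEquiv pc (tilde.toStalk MA q).hom
      (LinearMap.id : A →ₗ[R] A)).extendScalarsOfIsLocalization pc ((Spec R).presheaf.stalk q)
  let εB : (tilde MB).presheaf.stalk q ≃ₗ[(Spec R).presheaf.stalk q] B :=
    (IsLocalizedModule.linearEquiv pc (tilde.toStalk MB q).hom
      (LinearMap.id : B →ₗ[R] B)).extendScalarsOfIsLocalization pc ((Spec R).presheaf.stalk q)
  have hε : ∀ w, εB (stalkMapₗ (tilde.map fR) q w) = f (εA w) := by
    have key : εB.toLinearMap.restrictScalars R ∘ₗ
        (stalkMapₗ (tilde.map fR) q).restrictScalars R =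
          fR.hom ∘ₗ εA.toLinearMap.restrictScalars R := by
      refine IsLocalizedModule.linearMap_ext pc (tilde.toStalk MA q).hom
        (LinearMap.id : B →ₗ[R] B) (LinearMap.ext fun (m : A) => ?_)
      change εB (stalkMapₗ (tilde.map fR) q ((tilde.toStalk MA q).hom m)) =
        fR.hom (εA ((tilde.toStalk MA q).hom m))
      have h1 : (tilde.toStalk MB q).hom (fR.hom m) =
          stalkMapₗ (tilde.map fR) q ((tilde.toStalk MA q).hom m) :=
        ConcreteCategory.congr_hom (TildeStalk.toRes_natural R q fR) m
      rw [← h1]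
      exact (IsLocalizedModule.linearEquiv_apply pc _ _ _).trans
        (congrArg fR.hom (IsLocalizedModule.linearEquiv_apply pc (tilde.toStalk MA q).hom (LinearMap.id : A →ₗ[R] A) m)).symm
    exact fun w => LinearMap.congr_fun key w
  let G := fun M : ModuleCat.{u} R => (Scheme.Modules.pushforward j).obj (tilde M)
  let ψ : ∀ M, (G M).presheaf.stalk (j q) ≃+ (tilde M).presheaf.stalk q := fun M =>
    AddEquiv.ofBijective (PullbackStalk.pushStalkMap j q (tilde M)).hom
      (PushClosed.Unit.bijective_pushStalkMap j (tilde M) q)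
  have hψ : ∀ M (c : X.presheaf.stalk (j q)) (a : (G M).presheaf.stalk (j q)),
      ψ M (c • a) = σ c • ψ M a := fun M c a => PullbackStalk.pushStalkMap_smul j q (tilde M) c a
  let eA : (G MA).presheaf.stalk (j q) ≃ₗ[X.presheaf.stalk (j q)] A :=
    { (ψ MA).trans εA.toAddEquiv with
      map_smul' := fun c a => by
        change εA (ψ MA (c • a)) = c • εA (ψ MA a)
        rw [hψ, εA.map_smul]
        change σ.symm (σ c) • εA (ψ MA a) = _
        rw [σ.symm_apply_apply] }
  let eB : (G MB).presheaf.stalk (j q) ≃ₗ[X.presheaf.stalk (j q)] B :=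
    { (ψ MB).trans εB.toAddEquiv with
      map_smul' := fun c a => by
        change εB (ψ MB (c • a)) = c • εB (ψ MB a)
        rw [hψ, εB.map_smul]
        change σ.symm (σ c) • εB (ψ MB a) = _
        rw [σ.symm_apply_apply] }
  refine injective_rTensor_of_mono _ (j q) f eA eB (fun v => ?_) (h fR hfR)
  change εB (PullbackStalk.pushStalkMap j q _ (stalkMapₗ _ (j q) v)) = f (εA (ψ MA v))
  exact (congrArg εB (PullbackStalk.pushStalkMap_natural j q ((tilde.functor R).map fR) v)).trans
    (hε _)

end Groth.Agent.Lib.BettiExact.QFlat
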