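import Groth.Agent.Lib.BettiExact.Resolution
import Groth.Agent.Lib.BettiExact.Derived
import Groth.Agent.Lib.BettiExact.QCohInc
import Groth.Agent.Lib.BettiExact.QFlat
import Groth.Agent.Lib.QCoh.Pushforward
import Groth.Agent.Lib.QCoh.Tilde

/-!
# Exactness on quasi-coherent modules gives flat opcycles
-/

set_option autoImplicit false
set_option linter.style.haveILetI false

universe u

open CategoryTheory Limits AlgebraicGeometry HomologicalComplex

attribute [local instance] HasDerivedCategory.standard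

namespace Groth.Agent.Lib.BettiExact.QLeft

open Groth.Agent.Lib Groth.Agent.Lib.DerivedOX

variable {X : Scheme.{u}} {P : CochainComplex X.Modules ℤ}

/-- Injectivity in `H^k` gives injectivity in the opcycles. -/
theorem mono_tensor_opcycles (hflat : ∀ i, FlatMod.IsFlat (P.X i)) (k : ℤ) {M N : X.Modules}
    (g : M ⟶ N) [Mono g] (hH : Mono ((TensorExact.HP P k).map g)) :
    Mono ((DCoh.tensorBi.map g).app (P.opcycles k)) := by
  let T := DCoh.tensorBi (X := X)
  let Φ := TensorExact.FP P
  have hk := (ComplexShape.up ℤ).next_eq' (show (ComplexShape.up ℤ).Rel k (k + 1) from rfl)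
  haveI : Mono (HomologicalComplex.homologyMap (Φ.map g) k) := hH
  haveI : Mono ((Φ.map g).f (k + 1)) := FlatTensor.mono_flip_map_of_isFlat (hflat (k + 1)) g
  haveI : Mono (HomologicalComplex.opcyclesMap (Φ.map g) k) := by
    rw [Preadditive.mono_iff_cancel_zero]
    intro T' z hz
    have hz' : z ≫ (Φ.obj M).fromOpcycles k (k + 1) = 0 := by
      rw [← cancel_mono ((Φ.map g).f (k + 1)), zero_comp, Category.assoc]
      have e : (Φ.obj M).fromOpcycles k (k + 1) ≫ (Φ.map g).f (k + 1) =
          HomologicalComplex.opcyclesMap (Φ.map g) k ≫ (Φ.obj N).fromOpcycles k (k + 1) := by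
        rw [← cancel_epi ((Φ.obj M).pOpcycles k)]
        simp
      rw [e, reassoc_of% hz, zero_comp]
    obtain ⟨w, hw⟩ := KernelFork.IsLimit.lift' ((Φ.obj M).homologyIsKernel k (k + 1) hk) z hz'
    simp only [Fork.ι_ofι] at hw
    suffices hw0 : w = 0 by rw [← hw, hw0, zero_comp]
    rw [← cancel_mono (HomologicalComplex.homologyMap (Φ.map g) k),
      ← cancel_mono ((Φ.obj N).homologyι k), zero_comp, zero_comp, Category.assoc,
      HomologicalComplex.homologyι_naturality, reassoc_of% hw]
    exact hz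
  have hp := (ComplexShape.up ℤ).prev_eq' (show (ComplexShape.up ℤ).Rel (k - 1) k by simp)
  haveI : ∀ A, PreservesFiniteColimits (T.obj A) := FlatTensor.preservesFiniteColimits_tensorLeft
  let hc := fun A : X.Modules =>
    CokernelCofork.mapIsColimit _ (P.opcyclesIsCokernel (k - 1) k hp) (T.obj A)
  let e : ∀ A, (Φ.obj A).opcycles k ≅ (T.obj A).obj (P.opcycles k) := fun A =>
    ((Φ.obj A).opcyclesIsCokernel (k - 1) k hp).coconePointUniqueUpToIso (hc A)
  have he : ∀ A, (Φ.obj A).pOpcycles k ≫ (e A).hom = (T.obj A).map (P.pOpcycles k) :=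
    fun A => IsColimit.comp_coconePointUniqueUpToIso_hom
      ((Φ.obj A).opcyclesIsCokernel (k - 1) k hp) (hc A) WalkingParallelPair.one
  have sq : HomologicalComplex.opcyclesMap (Φ.map g) k ≫ (e N).hom =
      (e M).hom ≫ (T.map g).app (P.opcycles k) := by
    rw [← cancel_epi ((Φ.obj M).pOpcycles k), p_opcyclesMap_assoc, he N, ← Category.assoc, he M]
    exact ((T.map g).naturality (P.pOpcycles k)).symm
  exact ((MorphismProperty.monomorphisms _).arrow_mk_iso_iff
    (Arrow.isoMk' (HomologicalComplex.opcyclesMap (Φ.map g) k)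
      ((T.map g).app (P.opcycles k)) (e M) (e N) sq.symm)).1 inferInstance

/-- Exactness on quasi-coherent modules gives flat opcycles. -/
theorem isFlat_opcycles_pair [QuasiSeparatedSpace X] (hflat : ∀ i, FlatMod.IsFlat (P.X i)) (p : ℤ)
    (hl : PreservesFiniteLimits ((QCohCat.isQCoh X).ι ⋙ TensorExact.HP P p))
    (hr : PreservesFiniteColimits ((QCohCat.isQCoh X).ι ⋙ TensorExact.HP P p)) :
    FlatMod.IsFlat (P.opcycles p) ∧ FlatMod.IsFlat (P.opcycles (p + 1)) := by
  let F := (QCohCat.isQCoh X).ι ⋙ TensorExact.HP P p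
  have h₀ : ∀ ⦃M N : X.Modules⦄ (g : M ⟶ N), Mono g → QCohCat.isQCoh X M → QCohCat.isQCoh X N →
      Mono ((TensorExact.HP P p).map g) := fun M N g hg hM hN => by
    let g' : (⟨M, hM⟩ : QCohCat.QCoh X) ⟶ ⟨N, hN⟩ := ObjectProperty.homMk g
    haveI : Mono ((QCohCat.isQCoh X).ι.map g') := hg
    haveI : Mono g' := (QCohCat.isQCoh X).ι.mono_of_mono_map inferInstance
    exact inferInstanceAs (Mono (F.map g'))
  have h₁ : ∀ ⦃M N : X.Modules⦄ (g : M ⟶ N), Mono g → QCohCat.isQCoh X M → QCohCat.isQCoh X N →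
      Mono ((TensorExact.HP P (p + 1)).map g) := fun M N g hg hM hN => by
    haveI : SheafOfModules.IsQuasicoherent (R := X.ringCatSheaf) M := hM
    haveI : SheafOfModules.IsQuasicoherent (R := X.ringCatSheaf) N := hN
    let S := ShortComplex.mk g (cokernel.π g) (cokernel.condition g)
    have hS : S.ShortExact := { exact := ShortComplex.exact_cokernel g }
    have hC : QCohCat.isQCoh X (cokernel g) := QCoh.Closure.isQCoh_cokernel g
    let π' : (⟨N, hN⟩ : QCohCat.QCoh X) ⟶ ⟨cokernel g, hC⟩ := ObjectProperty.homMk (cokernel.π g)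
    haveI : Epi ((QCohCat.isQCoh X).ι.map π') := inferInstanceAs (Epi (cokernel.π g))
    haveI : Epi π' := (QCohCat.isQCoh X).ι.epi_of_epi_map inferInstance
    exact (SiteExact.Abstract.epi_iff_mono (TensorExact.FP P) (MonoFlat.shortExact_map_FP hflat) hS p).1
      (inferInstanceAs (Epi (F.map π')))
  have key : ∀ k, (∀ ⦃M N : X.Modules⦄ (g : M ⟶ N), Mono g → QCohCat.isQCoh X M →
      QCohCat.isQCoh X N → Mono ((TensorExact.HP P k).map g)) → FlatMod.IsFlat (P.opcycles k) := by
    intro k hk x
    obtain ⟨U, hU, hxU, -⟩ := exists_isAffineOpen_mem_and_subset (X := X) (x := x) (U := ⊤) trivial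
    obtain ⟨q, hq⟩ : x ∈ Set.range hU.fromSpec := by rw [hU.range_fromSpec]; exact hxU
    haveI : QuasiCompact hU.fromSpec := inferInstance
    haveI : QuasiSeparated hU.fromSpec := inferInstance
    subst hq
    refine QFlat.isFlatAt_of_mono_push hU.fromSpec q fun M N f hf => ?_
    haveI qM : ((tilde.functor Γ(X, U)).obj M).IsQuasicoherent := QCoh.Tilde.isQCoh_tildeFunctor_obj M
    haveI qN : ((tilde.functor Γ(X, U)).obj N).IsQuasicoherent := QCoh.Tilde.isQCoh_tildeFunctor_obj N
    haveI : PreservesFiniteLimits (tilde.functor Γ(X, U)) := inferInstance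
    haveI : Mono ((tilde.functor Γ(X, U)).map f) := inferInstance
    haveI : Mono ((Scheme.Modules.pushforward hU.fromSpec).map ((tilde.functor Γ(X, U)).map f)) := by
      haveI := (Scheme.Modules.restrictAdjunction hU.fromSpec).rightAdjoint_preservesLimits
      infer_instance
    exact mono_tensor_opcycles hflat k _ (hk _ inferInstance
      (QCoh.Pushforward.isQCoh_pushforward hU.fromSpec) (QCoh.Pushforward.isQCoh_pushforward hU.fromSpec))
  exact ⟨key p h₀, key (p + 1) h₁⟩

end Groth.Agent.Lib.BettiExact.QLeft
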