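import Groth.Agent.Lib.BettiExact.Local
import Groth.Agent.Lib.BettiExact.Derived
import Groth.Agent.Lib.DerivedOX.Amplitude

/-!
# `M ↦ H^p(M ⊗^L F)` is exact at locally constant Betti numbers
-/

set_option autoImplicit false
set_option linter.style.haveILetI false

universe u

open CategoryTheory Limits AlgebraicGeometry HomologicalComplex

attribute [local instance] HasDerivedCategory.standard

namespace Groth.Agent.Lib.BettiExact.Main

open Groth.Agent.Lib.DerivedOX Groth.Agent.Lib.Perfect

variable {X : Scheme.{u}}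

/-- The flat resolution with flat opcycles in degrees `p` and `p + 1`. -/
theorem exists_model [IsReduced X] (F : CochainComplex X.Modules ℤ) (e : ℤ) [(DCoh.toD X F).IsLE e]
    (p : ℤ) (hE : DCoh.IsPseudoCoherentD (p - 1) (DCoh.toD X F))
    [∀ x : X, DCoh.HasLpull (X.fromSpecResidueField x)]
    (hc : IsLocallyConstant (fun x : X => PerfD.betti (DCoh.toD X F) x p)) :
    ∃ (P : CochainComplex X.Modules ℤ) (s : P ⟶ F), QuasiIso s ∧ DCoh.IsKFlat P ∧
      (∀ i, FlatMod.IsFlat (P.X i)) ∧ FlatMod.IsFlat (P.opcycles p) ∧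
      FlatMod.IsFlat (P.opcycles (p + 1)) := by
  obtain ⟨P, s, hPb, hPf, hs⟩ := FlatResolve.exists_flat_resolution F e fun i hi =>
    (exactAt_iff_isZero_homology _ _).2
      ((DerivedCategory.isZero_of_isLE (DCoh.toD X F) e i hi).of_iso
        ((DerivedCategory.homologyFunctorFactors X.Modules i).app F).symm)
  haveI := hs
  let ψ : DerivedCategory.Q.obj P ≅ DCoh.toD X F := asIso (DerivedCategory.Q.map s)
  have hE' : DCoh.IsPseudoCoherentD (p - 1) (DerivedCategory.Q.obj P) :=
    (PseudoCoh.iff_forall _ _).2 fun x =>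
      PseudoCoh.PCAt.of_iso ψ.symm ((PseudoCoh.iff_forall _ _).1 hE x)
  have hb : ∀ x : X, PerfD.betti (DerivedCategory.Q.obj P) x p = PerfD.betti (DCoh.toD X F) x p :=
    fun x => by
      have h := FibreDim.deg_congr ((DerivedCategory.homologyFunctor _ p).mapIso
        ((DCoh.Lpull (X.fromSpecResidueField x)).mapIso ψ))
      exact Nat.cast_injective (R := ℤ) h
  obtain ⟨h0, h1⟩ := Local.isFlat_opcycles P hPf e hPb p hE' (by simpa only [hb] using hc)
  exact ⟨P, s, hs, Amplitude.isKFlat_of_bounded P e hPb hPf, hPf, h0, h1⟩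

end Groth.Agent.Lib.BettiExact.Main
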