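import Groth.Agent.Lib.BettiExact.QCohInc
import Groth.Agent.Lib.SiteExact.Abstract
import Groth.Agent.Lib.LocalTor.Split
import Groth.Agent.Lib.DerivedOX.RpushTriangulated
import Groth.Agent.Lib.DerivedOX.TensorCoprod
import Mathlib.Algebra.Homology.DerivedCategory.SingleTriangle
import Mathlib.CategoryTheory.Localization.CalculusOfFractions.Preadditive

/-!
# Long exact sequences through `- ⊗^L F`
-/

set_option autoImplicit false
set_option linter.style.haveILetI false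

universe u

open CategoryTheory Limits AlgebraicGeometry HomologicalComplex Pretriangulated

attribute [local instance] HasDerivedCategory.standard

namespace Groth.Agent.Lib.BettiExact.LTensorTri

open Groth.Agent.Lib Groth.Agent.Lib.DerivedOX

variable {X Y : Scheme.{u}} (F : CochainComplex X.Modules ℤ) [DCoh.HasLTensorCx F]

/-- `- ⊗^L F` is computed on complexes by a K-flat replacement of `F`. -/
theorem nonempty_iso_tensorCxQ {P : CochainComplex X.Modules ℤ} (s : P ⟶ F) [QuasiIso s]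
    (hP : DCoh.IsKFlat P) :
    Nonempty (DerivedCategory.Q ⋙ DCoh.LTensorCx F ≅ DCoh.tensorCxQ P) := by
  let Q := DerivedCategory.Q (C := X.Modules)
  let W := HomologicalComplex.quasiIso X.Modules (ComplexShape.up ℤ)
  let T := DCoh.LTensorCx F
  let α : Q ⋙ T ⟶ DCoh.tensorCxQ F := (DCoh.tensorCxQ F).totalLeftDerivedCounit Q W
  let R := KFlat.res X
  let η₁ : R ⋙ Q ⋙ T ⟶ 𝟭 _ ⋙ Q ⋙ T := Functor.whiskerRight (KFlat.aug X) (Q ⋙ T)
  let η₂ : R ⋙ Q ⋙ T ⟶ R ⋙ DCoh.tensorCxQ F := Functor.whiskerLeft R α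
  let η₃ : R ⋙ DCoh.tensorCxQ P ⟶ R ⋙ DCoh.tensorCxQ F :=
    Functor.whiskerLeft R (Functor.whiskerRight ((DCoh.tensorCx (X := X)).flip.map s) Q)
  let η₄ : R ⋙ DCoh.tensorCxQ P ⟶ 𝟭 _ ⋙ DCoh.tensorCxQ P :=
    Functor.whiskerRight (KFlat.aug X) (DCoh.tensorCxQ P)
  have h₁ : ∀ M, IsIso (η₁.app M) := fun M => by
    haveI : QuasiIso ((KFlat.aug X).app M) := KFlat.quasiIso_aug M
    haveI : IsIso (Q.map ((KFlat.aug X).app M)) := inferInstance
    exact inferInstanceAs (IsIso (T.map (Q.map ((KFlat.aug X).app M))))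
  have h₂ : ∀ M, IsIso (η₂.app M) := fun M =>
    TensorCoprod.isIso_counit_app_of_isKFlat F T α (KFlat.isKFlat_res M)
  have h₃ : ∀ M, IsIso (η₃.app M) := fun M => by
    haveI := TensorQis.quasiIso_left (KFlat.isKFlat_res M) s
    exact inferInstanceAs (IsIso (Q.map ((DCoh.tensorCx.obj (R.obj M)).map s)))
  have h₄ : ∀ M, IsIso (η₄.app M) := fun M => by
    haveI : QuasiIso ((KFlat.aug X).app M) := KFlat.quasiIso_aug M
    haveI := LeftExists.quasiIso_tensor_right hP ((KFlat.aug X).app M)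
    exact inferInstanceAs (IsIso (Q.map ((DCoh.tensorCx.map ((KFlat.aug X).app M)).app P)))
  haveI := NatIso.isIso_of_isIso_app η₁
  haveI := NatIso.isIso_of_isIso_app η₂
  haveI := NatIso.isIso_of_isIso_app η₃
  haveI := NatIso.isIso_of_isIso_app η₄
  exact ⟨(Functor.leftUnitor _).symm ≪≫ (asIso η₁).symm ≪≫ asIso η₂ ≪≫ (asIso η₃).symm ≪≫
    asIso η₄ ≪≫ Functor.leftUnitor _⟩

instance additive_LTensorCx : (DCoh.LTensorCx F).Additive := by
  obtain ⟨e⟩ := nonempty_iso_tensorCxQ F ((KFlat.aug X).app F)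
    (hP := KFlat.isKFlat_res F)
  haveI : (DCoh.tensorCxQ ((KFlat.res X).obj F)).Additive := inferInstance
  haveI : (DerivedCategory.Q ⋙ DCoh.LTensorCx F).Additive := Functor.additive_of_iso e.symm
  haveI : (HomotopyCategory.quotient X.Modules (ComplexShape.up ℤ) ⋙
      DerivedCategory.Qh ⋙ DCoh.LTensorCx F).Additive :=
    Functor.additive_of_iso ((Functor.associator _ _ _).symm ≪≫
      Functor.isoWhiskerRight (DerivedCategory.quotientCompQhIso X.Modules) (DCoh.LTensorCx F)).symm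
  haveI : (DerivedCategory.Qh ⋙ DCoh.LTensorCx F).Additive :=
    Functor.additive_of_full_essSurj_comp (HomotopyCategory.quotient X.Modules (ComplexShape.up ℤ)) _
  exact (Localization.functor_additive_iff DerivedCategory.Qh
    (HomotopyCategory.subcategoryAcyclic X.Modules).trW _).2 inferInstance

/-- A distinguished triangle, tensored with `F` and pushed forward, has exact homology sequence. -/
theorem exact_sequence (f : X ⟶ Y) [DCoh.HasRpush f] (T : Triangle (DCoh.D X))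
    (hT : T ∈ distTriang (DCoh.D X)) (p : ℤ) :
    ((ShortComplex.mk T.mor₁ T.mor₂ (comp_distTriang_mor_zero₁₂ _ hT)).map
      (DCoh.LTensorCx F ⋙ DCoh.Rpush f ⋙ DerivedCategory.homologyFunctor Y.Modules p)).Exact ∧
    (Epi ((DCoh.LTensorCx F ⋙ DCoh.Rpush f ⋙ DerivedCategory.homologyFunctor Y.Modules p).map T.mor₂) ↔
      Mono ((DCoh.LTensorCx F ⋙ DCoh.Rpush f ⋙
        DerivedCategory.homologyFunctor Y.Modules (p + 1)).map T.mor₁)) := by
  let P := (KFlat.res X).obj F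
  let s : P ⟶ F := (KFlat.aug X).app F
  haveI : QuasiIso s := KFlat.quasiIso_aug F
  obtain ⟨θ⟩ := nonempty_iso_tensorCxQ F s (KFlat.isKFlat_res F)
  obtain ⟨A, B, φ, ⟨ι⟩⟩ := (DerivedCategory.mem_distTriang_iff _).1 (inv_rot_of_distTriang _ hT)
  let Q := DerivedCategory.Q (C := X.Modules)
  let S := LocalTor.Split.coneSeq φ
  have hS := LocalTor.Split.shortExact_tensor S (LocalTor.Split.coneSplitting φ) P
  let W := DCoh.LTensorCx F ⋙ DCoh.Rpush f
  let T' := (DCoh.Rpush f).mapTriangle.obj (DerivedCategory.triangleOfSES hS)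
  have hT' : T' ∈ distTriang (DCoh.D Y) :=
    (DCoh.Rpush f).map_distinguished _ (DerivedCategory.triangleOfSES_distinguished hS)
  let c : T.obj₃ ≅ Q.obj S.X₃ :=
    ((shiftFunctorCompIsoId (DCoh.D X) (-1 : ℤ) (1 : ℤ) (by norm_num)).app T.obj₃).symm ≪≫
      (shiftFunctor (DCoh.D X) (1 : ℤ)).mapIso (Triangle.π₁.mapIso ι) ≪≫
      ((Q.commShiftIso (1 : ℤ)).app A).symm
  let e₁ : T.obj₁ ≅ Q.obj S.X₁ := Triangle.π₂.mapIso ι
  let e₂ : T.obj₂ ≅ Q.obj S.X₂ := Triangle.π₃.mapIso ι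
  have h₁ : T.mor₁ ≫ e₂.hom = e₁.hom ≫ Q.map S.f := ι.hom.comm₂
  have h₂ : T.mor₂ ≫ c.hom = e₂.hom ≫ Q.map S.g := by
    have h : (T.mor₂ ≫ (shiftFunctorCompIsoId (DCoh.D X) (-1 : ℤ) (1 : ℤ) (by norm_num)).inv.app T.obj₃) ≫
        (shiftFunctor (DCoh.D X) (1 : ℤ)).map (Triangle.π₁.mapIso ι).hom =
          e₂.hom ≫ (Q.map S.g ≫ (Q.commShiftIso (1 : ℤ)).hom.app A) := ι.hom.comm₃
    let η := (shiftFunctorCompIsoId (DCoh.D X) (-1 : ℤ) (1 : ℤ) (by norm_num)).inv.app T.obj₃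
    have h0 : T.mor₂ ≫ c.hom = ((T.mor₂ ≫ η) ≫
        (shiftFunctor (DCoh.D X) (1 : ℤ)).map (Triangle.π₁.mapIso ι).hom) ≫
          ((Q.commShiftIso (1 : ℤ)).app A).inv :=
      (Category.assoc T.mor₂ η _).symm.trans (Category.assoc (T.mor₂ ≫ η) _ _).symm
    refine h0.trans ((congrArg (· ≫ _) h).trans ?_)
    refine (Category.assoc _ _ _).trans (congrArg (e₂.hom ≫ ·) ((Category.assoc _ _ _).trans ?_))
    exact (congrArg (Q.map S.g ≫ ·) ((Q.commShiftIso (1 : ℤ)).app A).hom_inv_id).trans (Category.comp_id _)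
  let d₁ : W.obj T.obj₁ ≅ T'.obj₁ := W.mapIso e₁ ≪≫ (DCoh.Rpush f).mapIso (θ.app S.X₁)
  let d₂ : W.obj T.obj₂ ≅ T'.obj₂ := W.mapIso e₂ ≪≫ (DCoh.Rpush f).mapIso (θ.app S.X₂)
  let d₃ : W.obj T.obj₃ ≅ T'.obj₃ := W.mapIso c ≪≫ (DCoh.Rpush f).mapIso (θ.app S.X₃)
  have key : ∀ {U V : DCoh.D X} {U' V' : CochainComplex X.Modules ℤ} (m : U ⟶ V) (m' : U' ⟶ V')
      (a : U ≅ Q.obj U') (b : V ≅ Q.obj V'), m ≫ b.hom = a.hom ≫ Q.map m' →
      W.map m ≫ (W.map b.hom ≫ (DCoh.Rpush f).map (θ.hom.app V')) =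
        (W.map a.hom ≫ (DCoh.Rpush f).map (θ.hom.app U')) ≫
          (DCoh.Rpush f).map (Q.map (((DCoh.tensorCx (X := X)).flip.obj P).map m')) := by
    intro U V U' V' m m' a b hm
    rw [← Category.assoc, ← W.map_comp, hm, W.map_comp, Category.assoc, Category.assoc]
    refine congrArg (W.map a.hom ≫ ·) ?_
    refine ((DCoh.Rpush f).map_comp _ _).symm.trans (Eq.trans ?_ ((DCoh.Rpush f).map_comp _ _))
    exact congrArg (DCoh.Rpush f).map (θ.hom.naturality m')
  have k₁ : W.map T.mor₁ ≫ d₂.hom = d₁.hom ≫ T'.mor₁ := key T.mor₁ S.f e₁ e₂ h₁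
  have k₂ : W.map T.mor₂ ≫ d₃.hom = d₂.hom ≫ T'.mor₂ := key T.mor₂ S.g e₂ c h₂
  let H := fun n => DerivedCategory.homologyFunctor Y.Modules n
  refine ⟨ShortComplex.exact_of_iso (ShortComplex.isoMk ((H p).mapIso d₁.symm) ((H p).mapIso d₂.symm)
    ((H p).mapIso d₃.symm) ?_ ?_) (DerivedCategory.HomologySequence.exact₂ T' hT' p), ?_⟩
  · refine ((H p).map_comp _ _).symm.trans (Eq.trans ?_ ((H p).map_comp _ _))
    refine congrArg (H p).map ?_
    rw [Iso.symm_hom, Iso.symm_hom, Iso.inv_comp_eq, ← Category.assoc, Iso.eq_comp_inv]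
    exact k₁
  · refine ((H p).map_comp _ _).symm.trans (Eq.trans ?_ ((H p).map_comp _ _))
    refine congrArg (H p).map ?_
    rw [Iso.symm_hom, Iso.symm_hom, Iso.inv_comp_eq, ← Category.assoc, Iso.eq_comp_inv]
    exact k₂
  · refine Iff.trans ?_ (((DerivedCategory.HomologySequence.epi_homologyMap_mor₂_iff T' hT' p (p + 1) rfl).trans
      (DerivedCategory.HomologySequence.mono_homologyMap_mor₁_iff T' hT' p (p + 1) rfl).symm).trans ?_)
    · exact (MorphismProperty.epimorphisms _).arrow_mk_iso_iff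
        ((H p).mapArrow.mapIso (Arrow.isoMk' (W.map T.mor₂) T'.mor₂ d₂ d₃ k₂.symm))
    · exact ((MorphismProperty.monomorphisms _).arrow_mk_iso_iff
        ((H (p + 1)).mapArrow.mapIso (Arrow.isoMk' (W.map T.mor₁) T'.mor₁ d₁ d₂ k₁.symm))).symm

/-- Right exactness of `R^p f_*(Lf^* - ⊗^L F)` on quasi-coherent modules is left exactness in degree
`p + 1`. -/
theorem rightExact_iff_leftExact_succ (f : X ⟶ Y) [DCoh.HasLpull f] [DCoh.HasRpush f] (p : ℤ) :
    PreservesFiniteColimits ((QCohCat.isQCoh Y).ι ⋙ DerivedCategory.singleFunctor Y.Modules 0 ⋙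
      DCoh.Lpull f ⋙ DCoh.LTensorCx F ⋙ DCoh.Rpush f ⋙ DerivedCategory.homologyFunctor Y.Modules p) ↔
    PreservesFiniteLimits ((QCohCat.isQCoh Y).ι ⋙ DerivedCategory.singleFunctor Y.Modules 0 ⋙
      DCoh.Lpull f ⋙ DCoh.LTensorCx F ⋙ DCoh.Rpush f ⋙
        DerivedCategory.homologyFunctor Y.Modules (p + 1)) := by
  let adj := PullPushAdj.derivedAdjunction f
  letI := adj.leftAdjointCommShift ℤ
  haveI := adj.commShift_of_rightAdjoint ℤ
  haveI : (DCoh.Lpull f).IsTriangulated := adj.isTriangulated_leftAdjoint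
  let G := fun n : ℤ => (QCohCat.isQCoh Y).ι ⋙ DerivedCategory.singleFunctor Y.Modules 0 ⋙
      DCoh.Lpull f ⋙ DCoh.LTensorCx F ⋙ DCoh.Rpush f ⋙ DerivedCategory.homologyFunctor Y.Modules n
  have hseq : ∀ (n : ℤ) (S : ShortComplex (QCohCat.QCoh Y)), S.ShortExact →
      (S.map (G n)).Exact ∧ (Epi ((G n).map S.g) ↔ Mono ((G (n + 1)).map S.f)) := by
    intro n S hS
    have hS' := hS.map_of_exact (QCohCat.isQCoh Y).ι
    exact exact_sequence F f ((DCoh.Lpull f).mapTriangle.obj hS'.singleTriangle)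
      ((DCoh.Lpull f).map_distinguished _ hS'.singleTriangle_distinguished) n
  have hc : PreservesFiniteColimits (G p) ↔ ∀ S : ShortComplex (QCohCat.QCoh Y), S.ShortExact →
      (S.map (G p)).Exact ∧ Epi ((G p).map S.g) :=
    (Functor.preservesFiniteColimits_tfae (G p)).out 3 0
  have hl : PreservesFiniteLimits (G (p + 1)) ↔ ∀ S : ShortComplex (QCohCat.QCoh Y), S.ShortExact →
      (S.map (G (p + 1))).Exact ∧ Mono ((G (p + 1)).map S.f) :=
    Functor.preservesFiniteLimits_iff_forall_exact_map_and_mono _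
  exact hc.trans (Iff.trans ⟨fun h S hS => ⟨(hseq (p + 1) S hS).1, (hseq p S hS).2.1 (h S hS).2⟩,
    fun h S hS => ⟨(hseq p S hS).1, (hseq p S hS).2.2 (h S hS).2⟩⟩ hl.symm)

end Groth.Agent.Lib.BettiExact.LTensorTri
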