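import Groth.Agent.Lib.BettiExact.Main
import Groth.Agent.Lib.Perfect.LocFreeCoh
import Mathlib.RingTheory.Flat.EquationalCriterion
import Mathlib.RingTheory.Flat.Localization

/-!
# Locally free cohomology and locally constant Betti numbers from flat opcycles
-/

set_option autoImplicit false
set_option linter.style.haveILetI false

universe u

open CategoryTheory Limits AlgebraicGeometry HomologicalComplex

attribute [local instance] HasDerivedCategory.standard

namespace Groth.Agent.Lib.BettiExact.Converse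

open Groth.Agent.Lib Groth.Agent.Lib.Perfect.Basic Groth.Agent.Lib.Perfect.Ascent
open Groth.Agent.Lib.Perfect.PseudoCoh Groth.Agent.Lib.DerivedOX

variable {X : Scheme.{u}}

/-- A chart with a map of complexes from a complex of free modules. -/
theorem exists_chart (P : CochainComplex X.Modules ℤ) (m : ℤ)
    (hE : DCoh.IsPseudoCoherentD m (DerivedCategory.Q.obj P)) (x : X) :
    ∃ (R : CommRingCat.{u}) (j : Spec R ⟶ X) (_ : IsOpenImmersion j) (q : Spec R)
      (E : CochainComplex (Spec R).Modules ℤ) (φ : E ⟶ (rC j).obj P) (n : ℤ → ℕ),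
      j q = x ∧ DCoh.IsStrictlyPerfect E ∧ Good m (DerivedCategory.Q.map φ) ∧
        ∀ k, Nonempty (E.X k ≅ FlatMod.freeMod (Spec R) (n k)) := by
  obtain ⟨R, j, _, q, E, α, n, hq, hEs, hα, -, he⟩ :=
    Perfect.FibreDim.exists_chart ((iff_forall m _).1 hE x)
  obtain ⟨V, k, _, v, φ, hv, hφ⟩ := Perfect.Lift.exists_map hEs (α ≫ (RDQ j P).hom) q
  have hgood : Good m (DerivedCategory.Q.map φ) := by
    have e : DerivedCategory.Q.map φ =
        (RDQ k E).inv ≫ (RD k).map (α ≫ (RDQ j P).hom) ≫ (RDQ k ((rC j).obj P)).hom := by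
      rw [hφ]; simp
    rw [e]
    exact (Good.of_isIso _ _).comp
      ((good_restrict k (hα.comp (Good.of_isIso _ _))).comp (Good.of_isIso _ _))
  obtain ⟨W, hW, hvW, -⟩ := exists_isAffineOpen_mem_and_subset (X := V) (x := v) (U := ⊤) trivial
  obtain ⟨w, hw⟩ : v ∈ Set.range hW.fromSpec := by rw [hW.range_fromSpec]; exact hvW
  let ι := hW.fromSpec
  let φ₁ : (rC ι).obj ((rC k).obj E) ⟶ (rC ((ι ≫ k) ≫ j)).obj P :=
    (rC ι).map φ ≫ (rCComp ι k).inv.app ((rC j).obj P) ≫ (rCComp (ι ≫ k) j).inv.app P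
  have h₁ : Good m (DerivedCategory.Q.map ((rC ι).map φ)) := by
    have e : DerivedCategory.Q.map ((rC ι).map φ) = (RDQ ι ((rC k).obj E)).inv ≫
        (RD ι).map (DerivedCategory.Q.map φ) ≫ (RDQ ι ((rC k).obj ((rC j).obj P))).hom := by
      rw [Iso.eq_inv_comp]
      exact ((Scheme.Modules.restrictFunctor ι).mapDerivedCategoryFactors.hom.naturality φ).symm
    rw [e]
    exact (Good.of_isIso _ _).comp ((good_restrict ι hgood).comp (Good.of_isIso _ _))
  refine ⟨_, (ι ≫ k) ≫ j, inferInstance, w, (rC ι).obj ((rC k).obj E), φ₁, n, ?_,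
    isStrictlyPerfect_map ι (isStrictlyPerfect_map k hEs), ?_, fun i => ⟨?_⟩⟩
  · simp [ι, hw, hv, hq]
  · simp only [φ₁, Functor.map_comp]
    exact h₁.comp ((Good.of_isIso _ _).comp (Good.of_isIso _ _))
  · exact (Scheme.Modules.restrictFunctor ι).mapIso
      ((Scheme.Modules.restrictFunctor k).mapIso (he i).some ≪≫ Modules.Free.restrictFreeIso k (n i)) ≪≫
        Modules.Free.restrictFreeIso ι (n i)

lemma isLocalized_toStalk {R : CommRingCat.{u}} (N : ModuleCat.{u} R) (y : PrimeSpectrum.Top R) :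
    IsLocalizedModule y.asIdeal.primeCompl (tilde.toStalk N y).hom :=
  inferInstance

/-- A module whose `tilde` is flat is flat. -/
theorem flat_of_isFlat_tilde {R : CommRingCat.{u}} (N : ModuleCat.{u} R)
    (h : FlatMod.IsFlat (tilde N)) : Module.Flat R N := by
  let x : ∀ (P : Ideal R) [P.IsMaximal], PrimeSpectrum.Top R := fun P hP => ⟨P, hP.isPrime⟩
  refine Module.flat_of_localized_maximal (R := R) N fun P hP => ?_
  haveI : IsLocalizedModule P.primeCompl (tilde.toStalk N (x P)).hom := isLocalized_toStalk N (x P)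
  suffices hst : Module.Flat R ((tilde N).presheaf.stalk (x P)) by
    haveI := hst
    exact Module.Flat.of_linearEquiv
      (IsLocalizedModule.iso P.primeCompl (tilde.toStalk N (x P)).hom)
  letI : Algebra R ((Spec R).presheaf.stalk (x P)) := StructureSheaf.stalkAlgebra R (x P)
  haveI : IsLocalization.AtPrime ((Spec R).presheaf.stalk (x P)) (x P).asIdeal :=
    StructureSheaf.IsLocalization.to_stalk R (x P)
  haveI : IsScalarTower R ((Spec R).presheaf.stalk (x P)) ((tilde N).presheaf.stalk (x P)) :=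
    .of_algebraMap_smul fun _ _ => rfl
  haveI : Module.Flat R ((Spec R).presheaf.stalk (x P)) :=
    IsLocalization.flat _ (x P).asIdeal.primeCompl
  haveI : Module.Flat ((Spec R).presheaf.stalk (x P)) ((tilde N).presheaf.stalk (x P)) := h (x P)
  exact Module.Flat.trans R ((Spec R).presheaf.stalk (x P)) _

/-- `tilde` of a flat finitely presented module is locally free. -/
theorem isFinLocFree_tilde {R : CommRingCat.{u}} (N : ModuleCat.{u} R)
    [Module.FinitePresentation R N] [Module.Flat R N] : FlatMod.IsFinLocFree (tilde N) := by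
  haveI : Module.Projective R N := Module.Flat.projective_of_finitePresentation
  refine Kaehler.LocFree.isFinLocFree_of_charts _ fun p => ?_
  obtain ⟨r, n, hr, ⟨e⟩⟩ := Kaehler.LocFree.exists_free_basicOpen N p
  refine ⟨_, Spec.map (CommRingCat.ofHom (algebraMap R (Localization.Away r))), inferInstance, n,
    ?_, ⟨e⟩⟩
  change p ∈ Set.range (PrimeSpectrum.comap (algebraMap R (Localization.Away r)))
  rw [PrimeSpectrum.localization_away_comap_range (Localization.Away r) r]
  exact hr

/-- The cohomology of a complex of free modules with flat opcycles is locally free. -/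
theorem isFinLocFree_homology {Y : Scheme.{u}} (E : CochainComplex Y.Modules ℤ) (p : ℤ)
    (h₀ : FlatMod.IsFinLocFree (E.opcycles p)) (h₁ : FlatMod.IsFinLocFree (E.opcycles (p + 1)))
    (hX : FlatMod.IsFinLocFree (E.X (p + 1))) : FlatMod.IsFinLocFree (E.homology p) := by
  let π := E.pOpcycles (p + 1)
  have hI := Perfect.Top.isFinLocFree_kernel π hX h₁
  let δ := E.fromOpcycles p (p + 1)
  have hδ : δ ≫ π = 0 := by
    rw [← cancel_epi (E.pOpcycles p), comp_zero, p_fromOpcycles_assoc, d_pOpcycles]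
  let q : E.opcycles p ⟶ kernel π := kernel.lift π δ hδ
  have hse : (ShortComplex.mk δ π hδ).Exact := by
    refine ShortComplex.exact_of_g_is_cokernel _ (CokernelCofork.IsColimit.ofπ' _ _ fun {A} g hg => ?_)
    refine ⟨E.descOpcycles g p ((ComplexShape.up ℤ).prev_eq' rfl) ?_, E.p_descOpcycles _ _ _ _⟩
    rw [← p_fromOpcycles E p (p + 1), Category.assoc, hg, comp_zero]
  haveI : Epi q := (ShortComplex.exact_iff_epi_kernel_lift _).1 hse
  refine TensorMod.LocFree.of_iso ?_ (Perfect.Top.isFinLocFree_kernel q h₀ hI)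
  exact (kernelCompMono q (kernel.ι π)).symm ≪≫ kernelIsoOfEq (kernel.lift_ι π δ hδ) ≪≫
    (limit.isLimit _).conePointUniqueUpToIso
      (E.homologyIsKernel p (p + 1) ((ComplexShape.up ℤ).next_eq' rfl))

/-- Flat opcycles make the cohomology locally free and the Betti number locally constant. -/
theorem main [∀ x : X, DCoh.HasLpull (X.fromSpecResidueField x)]
    (P : CochainComplex X.Modules ℤ) (hPf : ∀ i, FlatMod.IsFlat (P.X i)) (b : ℤ)
    (hPb : ∀ i, b < i → IsZero (P.X i)) (p : ℤ)
    (hE : DCoh.IsPseudoCoherentD (p - 1) (DerivedCategory.Q.obj P))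
    (h₀ : FlatMod.IsFlat (P.opcycles p)) (h₁ : FlatMod.IsFlat (P.opcycles (p + 1))) :
    FlatMod.IsFinLocFree (DCoh.HD (DerivedCategory.Q.obj P) p) ∧
      IsLocallyConstant (fun x : X => PerfD.betti (DerivedCategory.Q.obj P) x p) := by
  suffices h : ∀ x : X, ∃ (R : CommRingCat.{u}) (j : Spec R ⟶ X) (_ : IsOpenImmersion j) (q : Spec R),
      j q = x ∧ FlatMod.IsFinLocFree ((DCoh.HD (DerivedCategory.Q.obj P) p).restrict j) ∧
        IsLocallyConstant (fun y : Spec R => PerfD.betti (DerivedCategory.Q.obj P) (j y) p) by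
    refine ⟨Kaehler.LocFree.isFinLocFree_of_charts _ fun x => ?_,
      (IsLocallyConstant.iff_eventually_eq _).2 fun x => ?_⟩
    · obtain ⟨R, j, _, q, hq, hfree, -⟩ := h x
      obtain ⟨V, n, hV, ⟨e⟩⟩ := hfree q
      exact ⟨_, V.ι ≫ j, inferInstance, n, ⟨⟨q, hV⟩, hq⟩,
        ⟨(Scheme.Modules.restrictFunctorComp V.ι j).app _ ≪≫ e⟩⟩
    · obtain ⟨R, j, _, q, rfl, -, hc⟩ := h x
      rw [← j.isOpenEmbedding.map_nhds_eq q]
      exact hc.eventually_eq q
  intro x
  obtain ⟨R, j, _, q, E, φ, n, hq, hEs, hφ, he⟩ := exists_chart P (p - 1) hE x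
  obtain ⟨⟨a', b', hv'⟩, hlf⟩ := hEs
  have hflat : ∀ i, p ≤ i → FlatMod.IsFlat (P.opcycles i) → FlatMod.IsFlat (E.opcycles i) :=
    fun i hi h =>
      FlatCoker.isFlat_opcycles_of_qis' φ i (max b b')
        (fun l hl => Local.quasiIsoAt_of_good φ hφ l (by omega))
        (fun l hl => hv' l (Or.inr (by omega)))
        (fun l hl => (Scheme.Modules.restrictFunctor j).map_isZero (hPb l (by omega)))
        (fun l => Perfect.Tensor.isFlat_of_isFinLocFree (hlf l))
        (fun l => Perfect.FlatPerfect.isFlat_restrict j (hPf l))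
        (Local.isFlat_opcycles_map j P i h)
  choose N hN hiN using Perfect.FibreDim.exists_coker n he
  let eo : ∀ i, E.opcycles i ≅ tilde (N i) := fun i =>
    ((E.opcyclesIsCokernel (i - 1) i
      ((ComplexShape.up ℤ).prev_eq' (show (ComplexShape.up ℤ).Rel (i - 1) i by simp))
        ).coconePointUniqueUpToIso (cokernelIsCokernel (E.d (i - 1) i))) ≪≫ (hiN i).some
  haveI := hN p
  haveI := hN (p + 1)
  haveI : Module.Flat R (N p) :=
    flat_of_isFlat_tilde _ (FlatCoker.isFlat_of_iso (eo p) (hflat p le_rfl h₀))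
  haveI : Module.Flat R (N (p + 1)) :=
    flat_of_isFlat_tilde _ (FlatCoker.isFlat_of_iso (eo (p + 1)) (hflat (p + 1) (by omega) h₁))
  refine ⟨R, j, inferInstance, q, hq, ?_, ?_⟩
  · haveI := Local.quasiIsoAt_of_good φ hφ p (by omega)
    exact TensorMod.LocFree.of_iso (asIso (HomologicalComplex.homologyMap φ p) ≪≫
        (P.sc p).mapHomologyIso (Scheme.Modules.restrictFunctor j) ≪≫
        (Scheme.Modules.restrictFunctor j).mapIso
          ((DerivedCategory.homologyFunctorFactors X.Modules p).app P).symm)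
      (isFinLocFree_homology E p (TensorMod.LocFree.of_iso (eo p).symm (isFinLocFree_tilde _))
        (TensorMod.LocFree.of_iso (eo (p + 1)).symm (isFinLocFree_tilde _)) (hlf _))
  · have key : ∀ y : Spec R, (PerfD.betti (DerivedCategory.Q.obj P) (j y) p : ℤ) + (n (p + 1) : ℤ) =
        (FlatCx.Rank.fdim (A := R) (N p) y : ℤ) + (FlatCx.Rank.fdim (A := R) (N (p + 1)) y : ℤ) :=
      fun y => Perfect.FibreDim.deg_fibre j (X.fromSpecResidueField (j y))
        (Field.toIsField (IsLocalRing.ResidueField (X.presheaf.stalk (j y)))) ⟨⟨a', b', hv'⟩, hlf⟩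
        (DerivedCategory.Q.map φ ≫ (RDQ j P).inv) (hφ.comp (Good.of_isIso _ _)) n he N hN hiN y
        (fun z => Scheme.fromSpecResidueField_apply _ z) p (by omega)
    have hs : IsLocallyConstant (fun y : PrimeSpectrum R =>
        FlatCx.Rank.fdim (A := R) (N p) y + FlatCx.Rank.fdim (A := R) (N (p + 1)) y - n (p + 1)) :=
      (FlatCx.Rank.isLocallyConstant_fdim (A := R) (N p)).comp₂
        (FlatCx.Rank.isLocallyConstant_fdim (A := R) (N (p + 1))) fun a c => a + c - n (p + 1)
    refine (?_ : (fun y : PrimeSpectrum R => FlatCx.Rank.fdim (A := R) (N p) y +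
        FlatCx.Rank.fdim (A := R) (N (p + 1)) y - n (p + 1)) =
          fun y : Spec R => PerfD.betti (DerivedCategory.Q.obj P) (j y) p) ▸ hs
    funext y
    have := key y
    omega

end Groth.Agent.Lib.BettiExact.Converse
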