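import Groth.Agent.Lib.DerivedOX.FlatResolve
import Groth.Agent.Lib.DerivedOX.Calculus
import Groth.Agent.Lib.FlatCx.Ker
import Groth.Agent.Lib.SpecSeq.AcyclicComplex

/-!
# Flatness of the opcycles of a complex is invariant under quasi-isomorphisms
-/

set_option autoImplicit false
set_option linter.style.haveILetI false

universe u

open CategoryTheory Limits AlgebraicGeometry HomologicalComplex

namespace Groth.Agent.Lib.BettiExact.FlatCoker

open Groth.Agent.Lib.DerivedOX Groth.Agent.Lib.Modules StalkModule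

variable {X : Scheme.{u}}

/-- The kernel of a surjection between flat modules is flat. -/
theorem isFlat_of_shortExact₁ {S : ShortComplex X.Modules} (hS : S.ShortExact)
    (h2 : FlatMod.IsFlat S.X₂) (h3 : FlatMod.IsFlat S.X₃) : FlatMod.IsFlat S.X₁ := fun x => by
  obtain ⟨hf, hg, hex⟩ := Calculus.stalk_shortExact hS x
  haveI : Module.Flat (X.presheaf.stalk x) (S.X₂.presheaf.stalk x) := h2 x
  haveI : Module.Flat (X.presheaf.stalk x) (S.X₃.presheaf.stalk x) := h3 x
  exact FlatCx.Ker.flat_of_exact (stalkMapₗ S.f x) (stalkMapₗ S.g x) hf hg hex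

lemma isFlat_of_iso {M N : X.Modules} (e : M ≅ N) (h : FlatMod.IsFlat M) : FlatMod.IsFlat N :=
  FlatResolve.good_isFlat.iso e h

lemma isFlat_zero {M : X.Modules} (h : IsZero M) : FlatMod.IsFlat M :=
  FlatResolve.good_isFlat.zero h

variable (C : CochainComplex X.Modules ℤ)

lemma epi_toCycles {i j : ℤ} (h : i + 1 = j) (hC : C.ExactAt j) : Epi (C.toCycles i j) := by
  have hz := (exactAt_iff_isZero_homology _ _).1 hC
  exact Abelian.epi_of_cokernel_π_eq_zero _ <| by
    have hp := (ComplexShape.up ℤ).prev_eq' (show (ComplexShape.up ℤ).Rel i j from h)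
    let e := (cokernelIsCokernel (C.toCycles i j)).coconePointUniqueUpToIso (C.homologyIsCokernel i j hp)
    exact (hz.of_iso e).eq_of_tgt _ _

/-- `cycles i → C^i → cycles (i+1)`. -/
noncomputable def cyclesSeq (i j : ℤ) : ShortComplex X.Modules :=
  ShortComplex.mk (C.iCycles i) (C.toCycles i j) (by
    rw [← cancel_mono (C.iCycles j), Category.assoc, toCycles_i, zero_comp, iCycles_d])

lemma shortExact_cyclesSeq {i j : ℤ} (h : i + 1 = j) (hC : C.ExactAt j) :
    (cyclesSeq C i j).ShortExact := by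
  haveI : Epi (C.toCycles i j) := epi_toCycles C h hC
  have hn := (ComplexShape.up ℤ).next_eq' (show (ComplexShape.up ℤ).Rel i j from h)
  haveI : Mono (cyclesSeq C i j).f := inferInstanceAs (Mono (C.iCycles i))
  haveI : Epi (cyclesSeq C i j).g := inferInstanceAs (Epi (C.toCycles i j))
  refine ShortComplex.ShortExact.mk' ?_ inferInstance inferInstance
  refine ShortComplex.exact_of_f_is_kernel _ (KernelFork.IsLimit.ofι' _ _ fun {A} k hk => ?_)
  have hk' : (k : A ⟶ C.X i) ≫ C.d i j = 0 :=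
    (congrArg ((k : A ⟶ C.X i) ≫ ·) (toCycles_i C i j)).symm.trans
      ((Category.assoc _ _ _).symm.trans ((congrArg (· ≫ C.iCycles j) hk).trans zero_comp))
  exact ⟨C.liftCycles k j hn hk', C.liftCycles_i k j hn hk'⟩

/-- Cycles of an acyclic bounded above complex with flat terms are flat. -/
theorem isFlat_cycles (hac : C.Acyclic) (b : ℤ) (hb : ∀ i, b < i → IsZero (C.X i)) (d : ℤ)
    (hf : ∀ i, d ≤ i → FlatMod.IsFlat (C.X i)) :
    ∀ i, d ≤ i → FlatMod.IsFlat (C.cycles i) := by
  have key : ∀ (k : ℕ) i, d ≤ i → b - i < k → FlatMod.IsFlat (C.cycles i) := by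
    intro k
    induction k with
    | zero => exact fun i _ hi => isFlat_zero (IsZero.of_mono (C.iCycles i) (hb i (by omega)))
    | succ k ih =>
      intro i hd hi
      exact isFlat_of_shortExact₁ (shortExact_cyclesSeq C rfl (hac _)) (hf i hd)
        (ih (i + 1) (by omega) (by omega))
  exact fun i hd => key ((b - i).toNat + 1) i hd (by omega)

variable {E P : CochainComplex X.Modules ℤ}

/-- Flatness of `opcycles k` passes along a map inducing isomorphisms in degrees `≥ k`. -/
theorem isFlat_opcycles_of_qis (φ : E ⟶ P) (k b : ℤ) (hφ : ∀ i, k ≤ i → QuasiIsoAt φ i)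
    (hEb : ∀ i, b < i → IsZero (E.X i)) (hPb : ∀ i, b < i → IsZero (P.X i))
    (hEf : ∀ i, FlatMod.IsFlat (E.X i)) (hPf : ∀ i, FlatMod.IsFlat (P.X i))
    (hE : FlatMod.IsFlat (E.opcycles k)) : FlatMod.IsFlat (P.opcycles k) := by
  let ψ := CochainComplex.truncGEMap φ k
  haveI : QuasiIso ψ := (CochainComplex.quasiIso_truncGEMap_iff φ k).2 hφ
  let C := CochainComplex.mappingCone ψ
  have hac : C.Acyclic := (SpecSeq.AcyclicComplex.quasiIso_iff_acyclic_mappingCone ψ).1 inferInstance
  let e : ∀ i, C.X i ≅ (E.truncGE k).X (i + 1) ⊞ (P.truncGE k).X i := fun i =>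
    HomologicalComplex.homotopyCofiber.XIsoBiprod ψ i (i + 1) rfl
  have hz : ∀ i, i < k - 1 → IsZero (C.X i) := fun i hi =>
    ((biprod_isZero_iff _ _).2 ⟨(E.truncGE k).isZero_of_isStrictlyGE k _ (by omega),
      (P.truncGE k).isZero_of_isStrictlyGE k _ (by omega)⟩).of_iso (e i)
  have hCb : ∀ i, max k b < i → IsZero (C.X i) := fun i hi =>
    ((biprod_isZero_iff _ _).2 ⟨(hEb _ (by omega)).of_iso (E.truncGEXIso k (i + 1) (by omega)),
      (hPb i (by omega)).of_iso (P.truncGEXIso k i (by omega))⟩).of_iso (e i)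
  have hCf : ∀ i, k + 1 ≤ i → FlatMod.IsFlat (C.X i) := fun i hi =>
    isFlat_of_iso (e i).symm (FlatResolve.good_isFlat.biprod
      (isFlat_of_iso (E.truncGEXIso k (i + 1) (by omega)).symm (hEf _))
      (isFlat_of_iso (P.truncGEXIso k i (by omega)).symm (hPf _)))
  have h1 : FlatMod.IsFlat (C.X (k - 1)) := by
    refine isFlat_of_iso (e (k - 1)).symm (FlatResolve.good_isFlat.biprod ?_ ?_)
    · rw [show k - 1 + 1 = k by omega]
      exact isFlat_of_iso (E.truncGEXIsoOpcycles k).symm hE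
    · exact isFlat_zero ((P.truncGE k).isZero_of_isStrictlyGE k _ (by omega))
  have h2 : FlatMod.IsFlat (C.cycles k) := by
    have hs := shortExact_cyclesSeq C (show k - 1 + 1 = k by omega) (hac k)
    haveI : Epi (C.toCycles (k - 2) (k - 1)) := epi_toCycles C (by omega) (hac _)
    have h0 : IsZero (C.cycles (k - 1)) :=
      IsZero.of_epi (C.toCycles (k - 2) (k - 1)) (hz _ (by omega))
    have : IsIso (C.toCycles (k - 1) k) := hs.isIso_g_iff.2 h0
    exact isFlat_of_iso (asIso (C.toCycles (k - 1) k)) h1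
  have h3 : FlatMod.IsFlat (C.X k) :=
    Calculus.isFlat_of_shortExact (shortExact_cyclesSeq C rfl (hac (k + 1))) h2
      (isFlat_cycles C hac (max k b) hCb (k + 1) hCf (k + 1) le_rfl)
  exact KFlat.isFlat_of_retract
    ⟨(P.truncGEXIsoOpcycles k).inv ≫ biprod.inr, biprod.snd ≫ (P.truncGEXIsoOpcycles k).hom, by simp⟩
    (isFlat_of_iso (e k) h3)

/-- The converse direction: flatness of `opcycles k` passes back along such a map. -/
theorem isFlat_opcycles_of_qis' (φ : E ⟶ P) (k b : ℤ) (hφ : ∀ i, k ≤ i → QuasiIsoAt φ i)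
    (hEb : ∀ i, b < i → IsZero (E.X i)) (hPb : ∀ i, b < i → IsZero (P.X i))
    (hEf : ∀ i, FlatMod.IsFlat (E.X i)) (hPf : ∀ i, FlatMod.IsFlat (P.X i))
    (hP : FlatMod.IsFlat (P.opcycles k)) : FlatMod.IsFlat (E.opcycles k) := by
  let ψ := CochainComplex.truncGEMap φ k
  haveI : QuasiIso ψ := (CochainComplex.quasiIso_truncGEMap_iff φ k).2 hφ
  let C := CochainComplex.mappingCone ψ
  have hac : C.Acyclic := (SpecSeq.AcyclicComplex.quasiIso_iff_acyclic_mappingCone ψ).1 inferInstance
  let e : ∀ i, C.X i ≅ (E.truncGE k).X (i + 1) ⊞ (P.truncGE k).X i := fun i =>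
    HomologicalComplex.homotopyCofiber.XIsoBiprod ψ i (i + 1) rfl
  have hz : ∀ i, i < k - 1 → IsZero (C.X i) := fun i hi =>
    ((biprod_isZero_iff _ _).2 ⟨(E.truncGE k).isZero_of_isStrictlyGE k _ (by omega),
      (P.truncGE k).isZero_of_isStrictlyGE k _ (by omega)⟩).of_iso (e i)
  have hCb : ∀ i, max k b < i → IsZero (C.X i) := fun i hi =>
    ((biprod_isZero_iff _ _).2 ⟨(hEb _ (by omega)).of_iso (E.truncGEXIso k (i + 1) (by omega)),
      (hPb i (by omega)).of_iso (P.truncGEXIso k i (by omega))⟩).of_iso (e i)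
  have hCf : ∀ i, k ≤ i → FlatMod.IsFlat (C.X i) := fun i hi => by
    refine isFlat_of_iso (e i).symm (FlatResolve.good_isFlat.biprod
      (isFlat_of_iso (E.truncGEXIso k (i + 1) (by omega)).symm (hEf _)) ?_)
    rcases eq_or_lt_of_le hi with rfl | hlt
    · exact isFlat_of_iso (P.truncGEXIsoOpcycles k).symm hP
    · exact isFlat_of_iso (P.truncGEXIso k i (by omega)).symm (hPf _)
  have h2 : FlatMod.IsFlat (C.cycles k) := isFlat_cycles C hac (max k b) hCb k hCf k le_rfl
  have hs := shortExact_cyclesSeq C (show k - 1 + 1 = k by omega) (hac k)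
  haveI : Epi (C.toCycles (k - 2) (k - 1)) := epi_toCycles C (by omega) (hac _)
  have h0 : IsZero (C.cycles (k - 1)) :=
    IsZero.of_epi (C.toCycles (k - 2) (k - 1)) (hz _ (by omega))
  have h1 : FlatMod.IsFlat (C.X (k - 1)) := by
    have : IsIso (C.toCycles (k - 1) k) := hs.isIso_g_iff.2 h0
    exact isFlat_of_iso (asIso (C.toCycles (k - 1) k)).symm h2
  have h3 : FlatMod.IsFlat ((E.truncGE k).X (k - 1 + 1)) :=
    KFlat.isFlat_of_retract ⟨biprod.inl, biprod.fst, by simp⟩ (isFlat_of_iso (e (k - 1)) h1)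
  rw [show k - 1 + 1 = k by omega] at h3
  exact isFlat_of_iso (E.truncGEXIsoOpcycles k) h3

end Groth.Agent.Lib.BettiExact.FlatCoker
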