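import Groth.Agent.Lib.BettiExact.FlatCoker

/-!
# Flatness of opcycles at a point is invariant under quasi-isomorphisms
-/

set_option autoImplicit false
set_option linter.style.haveILetI false

universe u

open CategoryTheory Limits AlgebraicGeometry HomologicalComplex

namespace Groth.Agent.Lib.BettiExact.FlatCokerAt

open Groth.Agent.Lib.DerivedOX Groth.Agent.Lib.Modules StalkModule
open FlatCoker (cyclesSeq shortExact_cyclesSeq epi_toCycles)

variable {X : Scheme.{u}} {x : X}

/-- Flatness at `x`. -/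
abbrev IsFl (x : X) (M : X.Modules) : Prop := FlatMod.IsFlatAt M x

lemma isFl_of_iso {M N : X.Modules} (e : M ≅ N) (h : IsFl x M) : IsFl x N := by
  haveI : Module.Flat (X.presheaf.stalk x) ((stalkModFunctor X x).obj M) := h
  exact Module.Flat.of_linearEquiv ((stalkModFunctor X x).mapIso e).toLinearEquiv.symm

lemma isFl_zero {M : X.Modules} (h : IsZero M) : IsFl x M := FlatCoker.isFlat_zero h x

theorem isFl_of_shortExact₁ {S : ShortComplex X.Modules} (hS : S.ShortExact)
    (h2 : IsFl x S.X₂) (h3 : IsFl x S.X₃) : IsFl x S.X₁ := by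
  obtain ⟨hf, hg, hex⟩ := Calculus.stalk_shortExact hS x
  haveI : Module.Flat (X.presheaf.stalk x) (S.X₂.presheaf.stalk x) := h2
  haveI : Module.Flat (X.presheaf.stalk x) (S.X₃.presheaf.stalk x) := h3
  exact FlatCx.Ker.flat_of_exact (stalkMapₗ S.f x) (stalkMapₗ S.g x) hf hg hex

theorem isFl_of_shortExact₂ {S : ShortComplex X.Modules} (hS : S.ShortExact)
    (h1 : IsFl x S.X₁) (h3 : IsFl x S.X₃) : IsFl x S.X₂ := by
  obtain ⟨hf, hg, hex⟩ := Calculus.stalk_shortExact hS x
  haveI : Module.Flat (X.presheaf.stalk x) (S.X₁.presheaf.stalk x) := h1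
  haveI : Module.Flat (X.presheaf.stalk x) (S.X₃.presheaf.stalk x) := h3
  exact Calculus.flat_of_extension _ _ hf hg hex

lemma isFl_biprod {M N : X.Modules} (hM : IsFl x M) (hN : IsFl x N) : IsFl x (M ⊞ N) :=
  isFl_of_shortExact₂ (S := ShortComplex.mk (biprod.inl : M ⟶ M ⊞ N) biprod.snd (by simp))
    (ShortComplex.Splitting.ofHasBinaryBiproduct M N).shortExact hM hN

lemma isFl_of_retract {M N : X.Modules} (r : Retract M N) (h : IsFl x N) : IsFl x M := by
  haveI : Module.Flat (X.presheaf.stalk x) ((stalkModFunctor X x).obj N) := h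
  let r' := r.map (stalkModFunctor X x)
  exact Module.Flat.of_retract r'.i.hom r'.r.hom (congrArg ModuleCat.Hom.hom r'.retract)

variable (C : CochainComplex X.Modules ℤ)

/-- Cycles of an acyclic bounded above complex with flat terms are flat. -/
theorem isFl_cycles (hac : C.Acyclic) (b : ℤ) (hb : ∀ i, b < i → IsZero (C.X i)) (d : ℤ)
    (hf : ∀ i, d ≤ i → IsFl x (C.X i)) :
    ∀ i, d ≤ i → IsFl x (C.cycles i) := by
  have key : ∀ (k : ℕ) i, d ≤ i → b - i < k → IsFl x (C.cycles i) := by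
    intro k
    induction k with
    | zero => exact fun i _ hi => isFl_zero (IsZero.of_mono (C.iCycles i) (hb i (by omega)))
    | succ k ih =>
      intro i hd hi
      exact isFl_of_shortExact₁ (shortExact_cyclesSeq C rfl (hac _)) (hf i hd)
        (ih (i + 1) (by omega) (by omega))
  exact fun i hd => key ((b - i).toNat + 1) i hd (by omega)

variable {E P : CochainComplex X.Modules ℤ}

/-- Flatness of `opcycles k` passes along a map inducing isomorphisms in degrees `≥ k`. -/
theorem isFl_opcycles_of_qis (φ : E ⟶ P) (k b : ℤ) (hφ : ∀ i, k ≤ i → QuasiIsoAt φ i)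
    (hEb : ∀ i, b < i → IsZero (E.X i)) (hPb : ∀ i, b < i → IsZero (P.X i))
    (hEf : ∀ i, IsFl x (E.X i)) (hPf : ∀ i, IsFl x (P.X i))
    (hE : IsFl x (E.opcycles k)) : IsFl x (P.opcycles k) := by
  let ψ := CochainComplex.truncGEMap φ k
  haveI : QuasiIso ψ := (CochainComplex.quasiIso_truncGEMap_iff φ k).2 hφ
  let C := CochainComplex.mappingCone ψ
  have hac : C.Acyclic := (SpecSeq.AcyclicComplex.quasiIso_iff_acyclic_mappingCone ψ).1 inferInstance
  let e : ∀ i, C.X i ≅ (E.truncGE k).X (i + 1) ⊞ (P.truncGE k).X i := fun i =>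
    HomologicalComplex.homotopyCofiber.XIsoBiprod ψ i (i + 1) rfl
  have hz : ∀ i, i < k - 1 → IsZero (C.X i) := fun i hi =>
    ((biprod_isZero_iff _ _).2 ⟨(E.truncGE k).isZero_of_isStrictlyGE k _ (by omega),
      (P.truncGE k).isZero_of_isStrictlyGE k _ (by omega)⟩).of_iso (e i)
  have hCb : ∀ i, max k b < i → IsZero (C.X i) := fun i hi =>
    ((biprod_isZero_iff _ _).2 ⟨(hEb _ (by omega)).of_iso (E.truncGEXIso k (i + 1) (by omega)),
      (hPb i (by omega)).of_iso (P.truncGEXIso k i (by omega))⟩).of_iso (e i)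
  have hCf : ∀ i, k + 1 ≤ i → IsFl x (C.X i) := fun i hi =>
    isFl_of_iso (e i).symm (isFl_biprod
      (isFl_of_iso (E.truncGEXIso k (i + 1) (by omega)).symm (hEf _))
      (isFl_of_iso (P.truncGEXIso k i (by omega)).symm (hPf _)))
  have h1 : IsFl x (C.X (k - 1)) := by
    refine isFl_of_iso (e (k - 1)).symm (isFl_biprod ?_ ?_)
    · rw [show k - 1 + 1 = k by omega]
      exact isFl_of_iso (E.truncGEXIsoOpcycles k).symm hE
    · exact isFl_zero ((P.truncGE k).isZero_of_isStrictlyGE k _ (by omega))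
  have h2 : IsFl x (C.cycles k) := by
    have hs := shortExact_cyclesSeq C (show k - 1 + 1 = k by omega) (hac k)
    haveI : Epi (C.toCycles (k - 2) (k - 1)) := epi_toCycles C (by omega) (hac _)
    have h0 : IsZero (C.cycles (k - 1)) :=
      IsZero.of_epi (C.toCycles (k - 2) (k - 1)) (hz _ (by omega))
    have : IsIso (C.toCycles (k - 1) k) := hs.isIso_g_iff.2 h0
    exact isFl_of_iso (asIso (C.toCycles (k - 1) k)) h1
  have h3 : IsFl x (C.X k) :=
    isFl_of_shortExact₂ (shortExact_cyclesSeq C rfl (hac (k + 1))) h2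
      (isFl_cycles C hac (max k b) hCb (k + 1) hCf (k + 1) le_rfl)
  exact isFl_of_retract
    ⟨(P.truncGEXIsoOpcycles k).inv ≫ biprod.inr, biprod.snd ≫ (P.truncGEXIsoOpcycles k).hom, by simp⟩
    (isFl_of_iso (e k) h3)

/-- The converse direction: flatness of `opcycles k` passes back along such a map. -/
theorem isFl_opcycles_of_qis' (φ : E ⟶ P) (k b : ℤ) (hφ : ∀ i, k ≤ i → QuasiIsoAt φ i)
    (hEb : ∀ i, b < i → IsZero (E.X i)) (hPb : ∀ i, b < i → IsZero (P.X i))
    (hEf : ∀ i, IsFl x (E.X i)) (hPf : ∀ i, IsFl x (P.X i))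
    (hP : IsFl x (P.opcycles k)) : IsFl x (E.opcycles k) := by
  let ψ := CochainComplex.truncGEMap φ k
  haveI : QuasiIso ψ := (CochainComplex.quasiIso_truncGEMap_iff φ k).2 hφ
  let C := CochainComplex.mappingCone ψ
  have hac : C.Acyclic := (SpecSeq.AcyclicComplex.quasiIso_iff_acyclic_mappingCone ψ).1 inferInstance
  let e : ∀ i, C.X i ≅ (E.truncGE k).X (i + 1) ⊞ (P.truncGE k).X i := fun i =>
    HomologicalComplex.homotopyCofiber.XIsoBiprod ψ i (i + 1) rfl
  have hz : ∀ i, i < k - 1 → IsZero (C.X i) := fun i hi =>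
    ((biprod_isZero_iff _ _).2 ⟨(E.truncGE k).isZero_of_isStrictlyGE k _ (by omega),
      (P.truncGE k).isZero_of_isStrictlyGE k _ (by omega)⟩).of_iso (e i)
  have hCb : ∀ i, max k b < i → IsZero (C.X i) := fun i hi =>
    ((biprod_isZero_iff _ _).2 ⟨(hEb _ (by omega)).of_iso (E.truncGEXIso k (i + 1) (by omega)),
      (hPb i (by omega)).of_iso (P.truncGEXIso k i (by omega))⟩).of_iso (e i)
  have hCf : ∀ i, k ≤ i → IsFl x (C.X i) := fun i hi => by
    refine isFl_of_iso (e i).symm (isFl_biprod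
      (isFl_of_iso (E.truncGEXIso k (i + 1) (by omega)).symm (hEf _)) ?_)
    rcases eq_or_lt_of_le hi with rfl | hlt
    · exact isFl_of_iso (P.truncGEXIsoOpcycles k).symm hP
    · exact isFl_of_iso (P.truncGEXIso k i (by omega)).symm (hPf _)
  have h2 : IsFl x (C.cycles k) := isFl_cycles C hac (max k b) hCb k hCf k le_rfl
  have hs := shortExact_cyclesSeq C (show k - 1 + 1 = k by omega) (hac k)
  haveI : Epi (C.toCycles (k - 2) (k - 1)) := epi_toCycles C (by omega) (hac _)
  have h0 : IsZero (C.cycles (k - 1)) :=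
    IsZero.of_epi (C.toCycles (k - 2) (k - 1)) (hz _ (by omega))
  have h1 : IsFl x (C.X (k - 1)) := by
    have : IsIso (C.toCycles (k - 1) k) := hs.isIso_g_iff.2 h0
    exact isFl_of_iso (asIso (C.toCycles (k - 1) k)).symm h2
  have h3 : IsFl x ((E.truncGE k).X (k - 1 + 1)) :=
    isFl_of_retract ⟨biprod.inl, biprod.fst, by simp⟩ (isFl_of_iso (e (k - 1)) h1)
  rw [show k - 1 + 1 = k by omega] at h3
  exact isFl_of_iso (E.truncGEXIsoOpcycles k) h3

end Groth.Agent.Lib.BettiExact.FlatCokerAt
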