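import Groth.Agent.Lib.BettiExact.TensorExact
import Groth.Agent.Lib.SiteExact.Abstract
import Groth.Agent.Lib.DerivedOX.KFlatStalk

/-!
# Exactness of `H^p(- ⊗ P)` and flatness of opcycles
-/

set_option autoImplicit false
set_option linter.style.haveILetI false

universe u

open CategoryTheory Limits AlgebraicGeometry HomologicalComplex

namespace Groth.Agent.Lib.BettiExact.MonoFlat

open scoped TensorProduct
open Groth.Agent.Lib Groth.Agent.Lib.DerivedOX Groth.Agent.Lib.Modules StalkModule

variable {X : Scheme.{u}}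

/-- A module whose tensor product preserves monomorphisms is flat. -/
theorem isFlat_of_mono {C : X.Modules}
    (h : ∀ ⦃M N : X.Modules⦄ (g : M ⟶ N), Mono g → Mono ((DCoh.tensorBi.map g).app C)) :
    FlatMod.IsFlat C := fun x => by
  refine Module.Flat.iff_rTensor_preserves_injective_linearMap.2 fun N N' _ _ _ _ f hf => ?_
  let A := ModuleCat.of (X.presheaf.stalk x) N
  let B := ModuleCat.of (X.presheaf.stalk x) N'
  let f' : A ⟶ B := ModuleCat.ofHom f
  let g := (KFlatStalk.skyF x).map f'
  have hg : Mono g := by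
    rw [StalkModule.mono_iff_stalkMapₗ_injective]
    intro z
    rw [injective_iff_map_eq_zero]
    intro s hs
    have hex : Function.Exact (0 : A ⟶ A) f' := fun a => by
      constructor
      · intro ha
        exact ⟨0, by rw [map_zero]; exact (hf (ha.trans (map_zero f).symm)).symm⟩
      · rintro ⟨b, rfl⟩
        exact map_zero f
    obtain ⟨t, rfl⟩ := ((KFlatStalk.exact_stalk_skyMap x (0 : A ⟶ A) f' hex z) s).1 hs
    change stalkMapₗ ((KFlatStalk.skyF x).map (0 : A ⟶ A)) z t = 0
    rw [Functor.map_zero]
    exact LinearMap.congr_fun ((stalkModFunctor X z).map_zero _ _ |> congrArg ModuleCat.Hom.hom) t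
  have hinj : Function.Injective (stalkMapₗ ((DCoh.tensorBi.map g).app C) x) :=
    (StalkModule.mono_iff_stalkMapₗ_injective _).1 (h g hg) x
  let eA := ((KFlatStalk.skyStalkIso x).app A).toLinearEquiv
  let eB := ((KFlatStalk.skyStalkIso x).app B).toLinearEquiv
  have hnat : ∀ v, eB (stalkMapₗ g x v) = f (eA v) := fun v =>
    ConcreteCategory.congr_hom ((KFlatStalk.skyStalkIso x).hom.naturality f') v
  let TA := (TensorSheaf.tensorStalk x ((KFlatStalk.skyF x).obj A) C).trans
    (TensorProduct.congr eA (LinearEquiv.refl _ _))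
  let TB := (TensorSheaf.tensorStalk x ((KFlatStalk.skyF x).obj B) C).trans
    (TensorProduct.congr eB (LinearEquiv.refl _ _))
  have key : ∀ w, TB (stalkMapₗ ((DCoh.tensorBi.map g).app C) x w) =
      LinearMap.rTensor _ f (TA w) := fun w => by
    have h1 := TensorSheaf.tensorStalk_natural x g (𝟙 C) w
    rw [CategoryTheory.Functor.map_id, Category.comp_id, StalkModule.stalkMapₗ_id] at h1
    refine (congrArg (TensorProduct.congr eB (LinearEquiv.refl _ _)) h1).trans ?_
    change _ = LinearMap.rTensor _ f (TensorProduct.congr eA (LinearEquiv.refl _ _)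
      (TensorSheaf.tensorStalk x ((KFlatStalk.skyF x).obj A) C w))
    have lin : (TensorProduct.congr eB (LinearEquiv.refl _ (C.presheaf.stalk x))).toLinearMap ∘ₗ
        TensorProduct.map (stalkMapₗ g x) LinearMap.id =
          LinearMap.rTensor _ f ∘ₗ
            (TensorProduct.congr eA (LinearEquiv.refl _ (C.presheaf.stalk x))).toLinearMap :=
      TensorProduct.ext' fun a b => congrArg (fun t => t ⊗ₜ[X.presheaf.stalk x] b) (hnat a)
    exact LinearMap.congr_fun lin _
  intro u v huv
  obtain ⟨u', rfl⟩ := TA.surjective u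
  obtain ⟨v', rfl⟩ := TA.surjective v
  exact congrArg TA (hinj (TB.injective ((key u').trans (huv.trans (key v').symm))))

theorem shortExact_map_FP {P : CochainComplex X.Modules ℤ} (hflat : ∀ i, FlatMod.IsFlat (P.X i))
    (S : ShortComplex X.Modules) (hS : S.ShortExact) : (S.map (TensorExact.FP P)).ShortExact := by
  refine HomologicalComplex.shortExact_of_degreewise_shortExact _ fun i => ?_
  haveI := FlatTensor.preservesFiniteLimits_tensorRight_of_isFlat (hflat i)
  haveI : PreservesFiniteColimits ((DCoh.tensorBi (X := X)).flip.obj (P.X i)) :=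
    PreservesColimitsOfSize.preservesFiniteColimits _
  exact hS.map_of_exact ((DCoh.tensorBi (X := X)).flip.obj (P.X i))

/-- `H^k(- ⊗ P)` is left exact only if the opcycles of `P` in degree `k` are flat. -/
theorem isFlat_opcycles {P : CochainComplex X.Modules ℤ} (hflat : ∀ i, FlatMod.IsFlat (P.X i))
    (k : ℤ) (h : PreservesFiniteLimits (TensorExact.HP P k)) : FlatMod.IsFlat (P.opcycles k) := by
  refine isFlat_of_mono fun M N g hg => ?_
  let T := DCoh.tensorBi (X := X)
  have hp := (ComplexShape.up ℤ).prev_eq' (show (ComplexShape.up ℤ).Rel (k - 1) k by simp)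
  haveI : ∀ A, PreservesFiniteColimits (T.obj A) := FlatTensor.preservesFiniteColimits_tensorLeft
  let hc := fun A : X.Modules =>
    CokernelCofork.mapIsColimit _ (P.opcyclesIsCokernel (k - 1) k hp) (T.obj A)
  let e : ∀ A, ((TensorExact.FP P).obj A).opcycles k ≅ (T.obj A).obj (P.opcycles k) := fun A =>
    (((TensorExact.FP P).obj A).opcyclesIsCokernel (k - 1) k hp).coconePointUniqueUpToIso (hc A)
  have he : ∀ A, ((TensorExact.FP P).obj A).pOpcycles k ≫ (e A).hom = (T.obj A).map (P.pOpcycles k) :=
    fun A => IsColimit.comp_coconePointUniqueUpToIso_hom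
      (((TensorExact.FP P).obj A).opcyclesIsCokernel (k - 1) k hp) (hc A) WalkingParallelPair.one
  have sq : HomologicalComplex.opcyclesMap ((TensorExact.FP P).map g) k ≫ (e N).hom =
      (e M).hom ≫ (T.map g).app (P.opcycles k) := by
    rw [← cancel_epi (((TensorExact.FP P).obj M).pOpcycles k), p_opcyclesMap_assoc, he N,
      ← Category.assoc, he M]
    exact ((T.map g).naturality (P.pOpcycles k)).symm
  exact ((MorphismProperty.monomorphisms _).arrow_mk_iso_iff
    (Arrow.isoMk' (HomologicalComplex.opcyclesMap ((TensorExact.FP P).map g) k)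
      ((T.map g).app (P.opcycles k)) (e M) (e N) sq.symm)).1
    ((SiteExact.Abstract.preservesFiniteLimits_iff_mono_opcyclesMap _ (shortExact_map_FP hflat) k).1
      h g hg)

/-- An exact `H^p(- ⊗ P)` forces flat opcycles in degrees `p` and `p + 1`. -/
theorem isFlat_opcycles_pair {P : CochainComplex X.Modules ℤ}
    (hflat : ∀ i, FlatMod.IsFlat (P.X i)) (p : ℤ) (hl : PreservesFiniteLimits (TensorExact.HP P p))
    (hr : PreservesFiniteColimits (TensorExact.HP P p)) :
    FlatMod.IsFlat (P.opcycles p) ∧ FlatMod.IsFlat (P.opcycles (p + 1)) :=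
  ⟨isFlat_opcycles hflat p hl, isFlat_opcycles hflat (p + 1)
    ((SiteExact.Abstract.rightExact_iff_leftExact_succ _ (shortExact_map_FP hflat) p).1 hr)⟩

end Groth.Agent.Lib.BettiExact.MonoFlat
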