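import Groth.Agent.Lib.BettiExact.Converse
import Groth.Agent.Lib.BettiExact.MonoFlat

/-!
# Exactness of `M ↦ H^p(M ⊗^L F)` gives locally free cohomology
-/

set_option autoImplicit false
set_option linter.style.haveILetI false

universe u

open CategoryTheory Limits AlgebraicGeometry HomologicalComplex

attribute [local instance] HasDerivedCategory.standard

namespace Groth.Agent.Lib.BettiExact.Resolution

open Groth.Agent.Lib Groth.Agent.Lib.DerivedOX Groth.Agent.Lib.Perfect

variable {X : Scheme.{u}}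

/-- The flat resolution of a bounded above pseudo-coherent complex. -/
theorem exists_resolution (F : CochainComplex X.Modules ℤ) (e : ℤ) [(DCoh.toD X F).IsLE e] :
    ∃ (P : CochainComplex X.Modules ℤ) (s : P ⟶ F), QuasiIso s ∧ (∀ i, e < i → IsZero (P.X i)) ∧
      DCoh.IsKFlat P ∧ ∀ i, FlatMod.IsFlat (P.X i) := by
  obtain ⟨P, s, hPb, hPf, hs⟩ := FlatResolve.exists_flat_resolution F e fun i hi =>
    (exactAt_iff_isZero_homology _ _).2
      ((DerivedCategory.isZero_of_isLE (DCoh.toD X F) e i hi).of_iso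
        ((DerivedCategory.homologyFunctorFactors X.Modules i).app F).symm)
  exact ⟨P, s, hs, hPb, Amplitude.isKFlat_of_bounded P e hPb hPf, hPf⟩

/-- Flat opcycles of the resolution give the two conclusions for `F`. -/
theorem conclude [∀ x : X, DCoh.HasLpull (X.fromSpecResidueField x)]
    (F : CochainComplex X.Modules ℤ) {P : CochainComplex X.Modules ℤ} (s : P ⟶ F) [QuasiIso s]
    (hPf : ∀ i, FlatMod.IsFlat (P.X i)) (e : ℤ) (hPb : ∀ i, e < i → IsZero (P.X i)) (p : ℤ)
    (hE : DCoh.IsPseudoCoherentD (p - 1) (DCoh.toD X F))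
    (h₀ : FlatMod.IsFlat (P.opcycles p)) (h₁ : FlatMod.IsFlat (P.opcycles (p + 1))) :
    FlatMod.IsFinLocFree (DCoh.HD (DCoh.toD X F) p) ∧
      IsLocallyConstant (fun x : X => PerfD.betti (DCoh.toD X F) x p) := by
  let ψ : DerivedCategory.Q.obj P ≅ DCoh.toD X F := asIso (DerivedCategory.Q.map s)
  have hE' : DCoh.IsPseudoCoherentD (p - 1) (DerivedCategory.Q.obj P) :=
    (PseudoCoh.iff_forall _ _).2 fun x =>
      PseudoCoh.PCAt.of_iso ψ.symm ((PseudoCoh.iff_forall _ _).1 hE x)
  obtain ⟨hf, hc⟩ := Converse.main P hPf e hPb p hE' h₀ h₁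
  refine ⟨TensorMod.LocFree.of_iso ((DerivedCategory.homologyFunctor _ p).mapIso ψ) hf, ?_⟩
  have hb : ∀ x : X, PerfD.betti (DerivedCategory.Q.obj P) x p = PerfD.betti (DCoh.toD X F) x p :=
    fun x => by
      have h := FibreDim.deg_congr ((DerivedCategory.homologyFunctor _ p).mapIso
        ((DCoh.Lpull (X.fromSpecResidueField x)).mapIso ψ))
      exact Nat.cast_injective (R := ℤ) h
  simpa only [hb] using hc

end Groth.Agent.Lib.BettiExact.Resolution
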