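import Groth.Agent.Lib.DR.LTensorCx
import Groth.Agent.Lib.SiteExact.Abstract
import Groth.Agent.Lib.DerivedOX.Bifunctor

/-!
# Exactness of `M ↦ H^p(M ⊗^L E)` over a ring
-/

set_option autoImplicit false
set_option linter.style.haveILetI false

universe u

open CategoryTheory Limits HomologicalComplex MonoidalCategory

attribute [local instance] HasDerivedCategory.standard

namespace Groth.Agent.Lib.BettiExact.RingExact

open Groth.Agent.Lib Groth.Agent.Lib.DR Groth.Agent.Lib.DerivedOX

variable {A : Type u} [CommRing A]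

/-- `M ↦ M ⊗ P`, termwise. -/
noncomputable def FP (P : DRing.Cx A) : ModuleCat.{u} A ⥤ DRing.Cx A where
  obj M := ((MonoidalCategory.tensorLeft M).mapHomologicalComplex (ComplexShape.up ℤ)).obj P
  map g := (NatTrans.mapHomologicalComplex ((curriedTensor (ModuleCat.{u} A)).map g)
    (ComplexShape.up ℤ)).app P
  map_id M := by
    refine HomologicalComplex.hom_ext _ _ fun i => ?_
    simp
  map_comp f g := by
    refine HomologicalComplex.hom_ext _ _ fun i => ?_
    simp

instance FP_additive (P : DRing.Cx A) : (FP P).Additive where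
  map_add {M N f g} := by
    refine HomologicalComplex.hom_ext _ _ fun i => ?_
    exact MonoidalPreadditive.add_whiskerRight f g

theorem shortExact_map_FP {P : DRing.Cx A} (hflat : ∀ i, Module.Flat A (P.X i))
    (S : ShortComplex (ModuleCat.{u} A)) (hS : S.ShortExact) : (S.map (FP P)).ShortExact := by
  refine HomologicalComplex.shortExact_of_degreewise_shortExact _ fun i => ?_
  haveI := hflat i
  have hex : PreservesFiniteLimits (MonoidalCategory.tensorRight (P.X i)) ∧
      PreservesFiniteColimits (MonoidalCategory.tensorRight (P.X i)) :=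
    ((Functor.exact_tfae (MonoidalCategory.tensorRight (P.X i))).out 1 3).1
      fun S hS => (Module.Flat.iff_rTensor_preserves_shortComplex_exact (P.X i)).1 (hflat i) S hS
  haveI := hex.1
  haveI := hex.2
  exact hS.map_of_exact (MonoidalCategory.tensorRight (P.X i))

/-- `M[0] ⊗ P` is `M ⊗ P` termwise, naturally in `M`. -/
noncomputable def singleIso (P : DRing.Cx A) :
    FP P ≅ HomologicalComplex.single (ModuleCat.{u} A) (ComplexShape.up ℤ) 0 ⋙
      MonoidalCategory.tensorRight P :=
  NatIso.ofComponents (fun M => (DR.LTensorCx.singleTensorIsoLeft M P).symm)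
    fun {M N} g => by
      refine HomologicalComplex.hom_ext _ _ fun m => ?_
      change ((g ▷ P.X m)) ≫ Bifunctor.singleHom₁ (DR.KFlat.tbi A) N 0 P m m (zero_add m) =
        Bifunctor.singleHom₁ (DR.KFlat.tbi A) M 0 P m m (zero_add m) ≫
          (mapBifunctorMap ((single (ModuleCat.{u} A) (ComplexShape.up ℤ) 0).map g) (𝟙 P)
            (DR.KFlat.tbi A) (ComplexShape.up ℤ)).f m
      dsimp only [Bifunctor.singleHom₁]
      rw [Category.assoc, ι_mapBifunctorMap, single_map_f_self, HomologicalComplex.id_f,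
        CategoryTheory.Functor.map_id, Category.id_comp, ← Category.assoc, ← Category.assoc,
        ← NatTrans.comp_app, ← Functor.map_comp, Iso.inv_hom_id_assoc, Functor.map_comp,
        NatTrans.comp_app]
      rfl

/-- `H^p(M[0] ⊗^L E) ≅ H^p(M ⊗ P)`, naturally in `M`. -/
theorem nonempty_iso (E : DRing.Cx A) [DRing.HasLTensorCx A E] {P : DRing.Cx A} (s : P ⟶ E)
    [QuasiIso s] (hP : DRing.IsKFlat A P) (p : ℤ) :
    Nonempty (DerivedCategory.singleFunctor (ModuleCat.{u} A) 0 ⋙ DRing.LTensorCx A E ⋙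
      DerivedCategory.homologyFunctor (ModuleCat.{u} A) p ≅ SiteExact.Abstract.H (FP P) p) := by
  let Q := DerivedCategory.Q (C := ModuleCat.{u} A)
  let T := DRing.LTensorCx A E
  let α : Q ⋙ T ⟶ DRing.tensorCxQ A E := DR.LTensorCx.α E
  let S := HomologicalComplex.single (ModuleCat.{u} A) (ComplexShape.up ℤ) 0
  let R := S ⋙ KProjRes.res A
  let η₁ : R ⋙ Q ⋙ T ⟶ S ⋙ Q ⋙ T :=
    Functor.whiskerRight (Functor.whiskerLeft S (KProjRes.aug A)) (Q ⋙ T)
  let η₂ : R ⋙ Q ⋙ T ⟶ R ⋙ DRing.tensorCxQ A E := Functor.whiskerLeft R α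
  let η₃ : R ⋙ DRing.tensorCxQ A P ⟶ R ⋙ DRing.tensorCxQ A E :=
    Functor.whiskerLeft R (Functor.whiskerRight ((MonoidalCategory.tensoringRight (DRing.Cx A)).map s) Q)
  let η₄ : R ⋙ DRing.tensorCxQ A P ⟶ S ⋙ DRing.tensorCxQ A P :=
    Functor.whiskerRight (Functor.whiskerLeft S (KProjRes.aug A)) (DRing.tensorCxQ A P)
  have h₁ : ∀ M, IsIso (η₁.app M) := fun M => by
    haveI : QuasiIso ((KProjRes.aug A).app (S.obj M)) := KProjRes.quasiIso_aug A _
    haveI : IsIso (Q.map ((KProjRes.aug A).app (S.obj M))) := inferInstance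
    exact inferInstanceAs (IsIso (T.map (Q.map ((KProjRes.aug A).app (S.obj M)))))
  have h₂ : ∀ M, IsIso (η₂.app M) := fun M =>
    KProjRes.isIso_counit_of_isKProjective (DRing.tensorCxQ A E) (DR.LTensorCx.inverts E)
      ((KProjRes.res A).obj (S.obj M))
  have h₃ : ∀ M, IsIso (η₃.app M) := fun M => by
    haveI := DR.LTensorCx.quasiIso_tensor_left
      (DR.KFlat.isKFlat_of_isKProjective ((KProjRes.res A).obj (S.obj M))) s
    exact inferInstanceAs (IsIso (Q.map (((DR.KFlat.tcx A).obj ((KProjRes.res A).obj (S.obj M))).map s)))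
  have h₄ : ∀ M, IsIso (η₄.app M) := fun M => by
    haveI : QuasiIso ((KProjRes.aug A).app (S.obj M)) := KProjRes.quasiIso_aug A _
    haveI := DR.KFlat.quasiIso_tensor_of_isKFlat hP ((KProjRes.aug A).app (S.obj M))
    exact Localization.inverts Q (HomologicalComplex.quasiIso (ModuleCat.{u} A) (.up ℤ)) _
      (DR.KFlat.quasiIso_tensor_of_isKFlat hP ((KProjRes.aug A).app (S.obj M)))
  haveI := NatIso.isIso_of_isIso_app η₁
  haveI := NatIso.isIso_of_isIso_app η₂
  haveI := NatIso.isIso_of_isIso_app η₃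
  haveI := NatIso.isIso_of_isIso_app η₄
  let e : S ⋙ Q ⋙ T ≅ S ⋙ DRing.tensorCxQ A P :=
    (asIso η₁).symm ≪≫ asIso η₂ ≪≫ (asIso η₃).symm ≪≫ asIso η₄
  exact ⟨Functor.isoWhiskerRight (DerivedCategory.singleFunctorIsoCompQ (ModuleCat.{u} A) 0)
      (T ⋙ DerivedCategory.homologyFunctor (ModuleCat.{u} A) p) ≪≫
    Functor.isoWhiskerRight e (DerivedCategory.homologyFunctor (ModuleCat.{u} A) p) ≪≫
    Functor.isoWhiskerLeft (S ⋙ MonoidalCategory.tensorRight P)
      (DerivedCategory.homologyFunctorFactors (ModuleCat.{u} A) p) ≪≫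
    Functor.isoWhiskerRight (singleIso P).symm _⟩

/-- Left exactness of `H^k(- ⊗ P)` gives a flat module of opcycles. -/
theorem flat_opcycles {P : DRing.Cx A} (hflat : ∀ i, Module.Flat A (P.X i)) (k : ℤ)
    (h : PreservesFiniteLimits (SiteExact.Abstract.H (FP P) k)) : Module.Flat A (P.opcycles k) := by
  refine Module.Flat.iff_rTensor_preserves_injective_linearMap.2 fun M N _ _ _ _ f hf => ?_
  let g : ModuleCat.of A M ⟶ ModuleCat.of A N := ModuleCat.ofHom f
  have hg : Mono g := (ModuleCat.mono_iff_injective _).2 hf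
  have hp := (ComplexShape.up ℤ).prev_eq' (show (ComplexShape.up ℤ).Rel (k - 1) k by simp)
  let T := curriedTensor (ModuleCat.{u} A)
  haveI : ∀ B, PreservesFiniteColimits (T.obj B) := fun B =>
    inferInstanceAs (PreservesFiniteColimits (MonoidalCategory.tensorLeft B))
  let hc := fun B : ModuleCat.{u} A =>
    CokernelCofork.mapIsColimit _ (P.opcyclesIsCokernel (k - 1) k hp) (T.obj B)
  let e : ∀ B, ((FP P).obj B).opcycles k ≅ (T.obj B).obj (P.opcycles k) := fun B =>
    (((FP P).obj B).opcyclesIsCokernel (k - 1) k hp).coconePointUniqueUpToIso (hc B)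
  have he : ∀ B, ((FP P).obj B).pOpcycles k ≫ (e B).hom = (T.obj B).map (P.pOpcycles k) :=
    fun B => IsColimit.comp_coconePointUniqueUpToIso_hom
      (((FP P).obj B).opcyclesIsCokernel (k - 1) k hp) (hc B) WalkingParallelPair.one
  have sq : HomologicalComplex.opcyclesMap ((FP P).map g) k ≫ (e (ModuleCat.of A N)).hom =
      (e (ModuleCat.of A M)).hom ≫ (T.map g).app (P.opcycles k) := by
    rw [← cancel_epi (((FP P).obj (ModuleCat.of A M)).pOpcycles k), p_opcyclesMap_assoc,
      he (ModuleCat.of A N), ← Category.assoc, he (ModuleCat.of A M)]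
    exact ((T.map g).naturality (P.pOpcycles k)).symm
  have hmono := ((MorphismProperty.monomorphisms _).arrow_mk_iso_iff
    (Arrow.isoMk' (HomologicalComplex.opcyclesMap ((FP P).map g) k)
      ((T.map g).app (P.opcycles k)) (e _) (e _) sq.symm)).1
    ((SiteExact.Abstract.preservesFiniteLimits_iff_mono_opcyclesMap _ (shortExact_map_FP hflat) k).1
      h g hg)
  exact (ModuleCat.mono_iff_injective _).1 hmono

end Groth.Agent.Lib.BettiExact.RingExact
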