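import Groth.Agent.Lib.BettiExact.FlatCokerAt
import Groth.Agent.Lib.BettiExact.Resolution
import Groth.Agent.Lib.BettiExact.Derived
import Groth.Agent.Lib.BettiExact.RingExact
import Groth.Prelude.Def_DerSch

/-!
# Exactness of `H^p(- ⊗^L F)` spreads out from a stalk
-/

set_option autoImplicit false
set_option linter.style.haveILetI false

universe u

open CategoryTheory Limits AlgebraicGeometry HomologicalComplex

attribute [local instance] HasDerivedCategory.standard

namespace Groth.Agent.Lib.BettiExact.NhdExact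

open Groth.Agent.Lib Groth.Agent.Lib.Perfect.Basic Groth.Agent.Lib.DerivedOX
open Groth.Agent.Lib.Modules

variable {X : Scheme.{u}}

/-- Flatness of the opcycles of a pseudo-coherent complex of flat modules is an open condition. -/
theorem exists_nhd (P : CochainComplex X.Modules ℤ) (hPf : ∀ i, FlatMod.IsFlat (P.X i)) (b : ℤ)
    (hPb : ∀ i, b < i → IsZero (P.X i)) (k : ℤ)
    (hE : DCoh.IsPseudoCoherentD (k - 1) (DerivedCategory.Q.obj P)) (x : X)
    (h : FlatMod.IsFlatAt (P.opcycles k) x) :
    ∃ U : X.Opens, x ∈ U ∧ ∀ y ∈ U, FlatMod.IsFlatAt (P.opcycles k) y := by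
  obtain ⟨R, j, _, q, E, φ, n, hq, hEs, hφ, he⟩ := Converse.exists_chart P (k - 1) hE x
  subst hq
  obtain ⟨⟨a', b', hv'⟩, hlf⟩ := hEs
  have hqi : ∀ l, k ≤ l → QuasiIsoAt φ l := fun l hl => Local.quasiIsoAt_of_good φ hφ l (by omega)
  have hP₀ : FlatMod.IsFlatAt (((rC j).obj P).opcycles k) q :=
    Local.isFlatAt_of_iso (Local.opcyclesRestrictIso j P k).symm
      (Perfect.FlatPerfect.isFlatAt_restrict j q h)
  have hE₀ : FlatMod.IsFlatAt (E.opcycles k) q :=
    FlatCokerAt.isFl_opcycles_of_qis' φ k (max b b') hqi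
      (fun l hl => hv' l (Or.inr (by omega)))
      (fun l hl => (Scheme.Modules.restrictFunctor j).map_isZero (hPb l (by omega)))
      (fun l => Perfect.Tensor.isFlat_of_isFinLocFree (hlf l) q)
      (fun l => Perfect.FlatPerfect.isFlat_restrict j (hPf l) q) hP₀
  obtain ⟨N, hN, ⟨i₀⟩⟩ := Perfect.FibreDim.exists_coker n he k
  let eo : E.opcycles k ≅ tilde N :=
    ((E.opcyclesIsCokernel (k - 1) k
      ((ComplexShape.up ℤ).prev_eq' (show (ComplexShape.up ℤ).Rel (k - 1) k by simp))
        ).coconePointUniqueUpToIso (cokernelIsCokernel (E.d (k - 1) k))) ≪≫ i₀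
  haveI := hN
  have hfl : FlatMod.IsFlatAt (tilde N) q := Local.isFlatAt_of_iso eo hE₀
  have hfree : Module.Free ((Spec R).presheaf.stalk q) ((tilde N).presheaf.stalk q) := by
    letI : Algebra R ((Spec R).presheaf.stalk q) := StructureSheaf.stalkAlgebra R q
    haveI : IsLocalization (show PrimeSpectrum.Top R from q).asIdeal.primeCompl
        ((Spec R).presheaf.stalk q) :=
      StructureSheaf.IsLocalization.to_stalk R q
    haveI : IsScalarTower R ((Spec R).presheaf.stalk q) ((tilde N).presheaf.stalk q) :=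
      .of_algebraMap_smul fun _ _ => rfl
    haveI := Converse.isLocalized_toStalk N q
    haveI : Module.Finite ((Spec R).presheaf.stalk q) ((tilde N).presheaf.stalk q) :=
      Module.Finite.of_isLocalizedModule (show PrimeSpectrum.Top R from q).asIdeal.primeCompl
        (tilde.toStalk N q).hom
    haveI : Module.Flat ((Spec R).presheaf.stalk q) ((tilde N).presheaf.stalk q) := hfl
    exact Module.free_of_flat_of_isLocalRing
  obtain ⟨r, d, hr, ⟨e⟩⟩ := Perfect.FreeNear.exists_free_basicOpen N q hfree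
  let l := Spec.map (CommRingCat.ofHom (algebraMap R (Localization.Away r)))
  haveI : IsOpenImmersion l := inferInstance
  have hwmem : q ∈ Set.range l := by
    change q ∈ Set.range (PrimeSpectrum.comap (algebraMap R (Localization.Away r)))
    rw [PrimeSpectrum.localization_away_comap_range (Localization.Away r) r]
    exact hr
  have hE₁ : FlatMod.IsFlat (((rC l).obj E).opcycles k) :=
    FlatCoker.isFlat_of_iso (Local.opcyclesRestrictIso l E k ≪≫
      (Scheme.Modules.restrictFunctor l).mapIso eo ≪≫ e).symm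
      (Perfect.Tensor.isFlat_of_isFinLocFree
        (TensorMod.LocFree.of_rank (TensorMod.LocFree.isFinLocFree_freeMod _ d)))
  have hP₁ : FlatMod.IsFlat (((rC l).obj ((rC j).obj P)).opcycles k) :=
    FlatCoker.isFlat_opcycles_of_qis ((rC l).map φ) k (max b b')
      (fun i hi => haveI := hqi i hi; inferInstance)
      (fun i hi => (Scheme.Modules.restrictFunctor l).map_isZero (hv' i (Or.inr (by omega))))
      (fun i hi => (Scheme.Modules.restrictFunctor l).map_isZero
        ((Scheme.Modules.restrictFunctor j).map_isZero (hPb i (by omega))))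
      (fun i => Perfect.FlatPerfect.isFlat_restrict l (Perfect.Tensor.isFlat_of_isFinLocFree (hlf i)))
      (fun i => Perfect.FlatPerfect.isFlat_restrict l (Perfect.FlatPerfect.isFlat_restrict j (hPf i)))
      hE₁
  obtain ⟨w, rfl⟩ := hwmem
  refine ⟨(l ≫ j).opensRange, ⟨w, rfl⟩, ?_⟩
  rintro _ ⟨w', rfl⟩
  exact Perfect.FlatPerfect.isFlatAt_of_restrict j (l w')
    (Local.isFlatAt_of_iso (Local.opcyclesRestrictIso j P k)
      (Local.isFlatAt_opcycles_of_map l ((rC j).obj P) k hP₁ w'))

/-- Left exactness on the stalk gives flat opcycles at the point. -/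
theorem isFlatAt_of_stalk {P : CochainComplex X.Modules ℤ} (hPf : ∀ i, FlatMod.IsFlat (P.X i))
    (k : ℤ) (x : X)
    (h : PreservesFiniteLimits (SiteExact.Abstract.H (RingExact.FP
      (((StalkModule.stalkModFunctor X x).mapHomologicalComplex (ComplexShape.up ℤ)).obj P)) k)) :
    FlatMod.IsFlatAt (P.opcycles k) x := by
  let S := StalkModule.stalkModFunctor X x
  let Px := (S.mapHomologicalComplex (ComplexShape.up ℤ)).obj P
  haveI hflat : Module.Flat (X.presheaf.stalk x) (Px.opcycles k) :=
    RingExact.flat_opcycles (P := Px) (fun i => hPf i x) k h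
  haveI : PreservesFiniteColimits S := PreservesColimitsOfSize.preservesFiniteColimits _
  have hp := (ComplexShape.up ℤ).prev_eq' (show (ComplexShape.up ℤ).Rel (k - 1) k by simp)
  let e : Px.opcycles k ≅ S.obj (P.opcycles k) :=
    (Px.opcyclesIsCokernel (k - 1) k hp).coconePointUniqueUpToIso
      (CokernelCofork.mapIsColimit _ (P.opcyclesIsCokernel (k - 1) k hp) S)
  exact Module.Flat.of_linearEquiv e.symm.toLinearEquiv

/-- The two stalk functors agree. -/
noncomputable def stalkIso (x : X) : StalkModule.stalkModFunctor X x ≅ DerSch.stalkFunctor X x :=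
  NatIso.ofComponents (fun _ => Iso.refl _) fun φ => by
    ext v
    rfl

/-- A stalkwise left exact functor gives flat opcycles near the point. -/
theorem main (F : CochainComplex X.Modules ℤ) (e : ℤ) [(DCoh.toD X F).IsLE e] (p k : ℤ)
    (hE : DCoh.IsPseudoCoherentD (k - 1) (DCoh.toD X F)) (x : X)
    [DRing.HasLTensorCx (X.presheaf.stalk x)
      (((DerSch.stalkFunctor X x).mapHomologicalComplex (ComplexShape.up ℤ)).obj F)]
    (hk : ∀ Px : DRing.Cx (X.presheaf.stalk x), (∀ i, Module.Flat (X.presheaf.stalk x) (Px.X i)) →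
      Nonempty (DerivedCategory.singleFunctor (ModuleCat.{u} (X.presheaf.stalk x)) 0 ⋙
        DRing.LTensorCx (X.presheaf.stalk x)
          (((DerSch.stalkFunctor X x).mapHomologicalComplex (ComplexShape.up ℤ)).obj F) ⋙
        DerivedCategory.homologyFunctor (ModuleCat.{u} (X.presheaf.stalk x)) p ≅
          SiteExact.Abstract.H (RingExact.FP Px) p) →
      PreservesFiniteLimits (SiteExact.Abstract.H (RingExact.FP Px) k)) :
    ∃ U : X.Opens, x ∈ U ∧ ∃ (P : CochainComplex (U : Scheme.{u}).Modules ℤ)
      (s : P ⟶ (DCoh.restrictCx U).obj F), QuasiIso s ∧ DCoh.IsKFlat P ∧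
        (∀ i, FlatMod.IsFlat (P.X i)) ∧ FlatMod.IsFlat (P.opcycles k) := by
  obtain ⟨P, s, hs, hPb, hP, hPf⟩ := Resolution.exists_resolution F e
  haveI := hs
  let S := StalkModule.stalkModFunctor X x
  let Px := (S.mapHomologicalComplex (ComplexShape.up ℤ)).obj P
  let sx : Px ⟶ ((DerSch.stalkFunctor X x).mapHomologicalComplex (ComplexShape.up ℤ)).obj F :=
    (S.mapHomologicalComplex (ComplexShape.up ℤ)).map s ≫
      (NatIso.mapHomologicalComplex (stalkIso x) (ComplexShape.up ℤ)).hom.app F
  haveI : PreservesFiniteColimits S := PreservesColimitsOfSize.preservesFiniteColimits _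
  haveI : QuasiIso ((S.mapHomologicalComplex (ComplexShape.up ℤ)).map s) := inferInstance
  haveI : QuasiIso sx := inferInstance
  have hx : FlatMod.IsFlatAt (P.opcycles k) x := isFlatAt_of_stalk hPf k x
    (hk Px (fun i => hPf i x) (RingExact.nonempty_iso _ sx ((KFlatStalk.isKFlat_iff_stalk P).1 hP x) p))
  let ψ : DerivedCategory.Q.obj P ≅ DCoh.toD X F := asIso (DerivedCategory.Q.map s)
  have hE' : DCoh.IsPseudoCoherentD (k - 1) (DerivedCategory.Q.obj P) :=
    (Perfect.PseudoCoh.iff_forall _ _).2 fun y =>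
      Perfect.PseudoCoh.PCAt.of_iso ψ.symm ((Perfect.PseudoCoh.iff_forall _ _).1 hE y)
  obtain ⟨U, hxU, hU⟩ := exists_nhd P hPf e hPb k hE' x hx
  refine ⟨U, hxU, (DCoh.restrictCx U).obj P, (DCoh.restrictCx U).map s, inferInstance, ?_,
    fun i => Perfect.FlatPerfect.isFlat_restrict U.ι (hPf i), fun y => ?_⟩
  · exact Amplitude.isKFlat_of_bounded _ e
      (fun i hi => (Scheme.Modules.restrictFunctor U.ι).map_isZero (hPb i hi))
      (fun i => Perfect.FlatPerfect.isFlat_restrict U.ι (hPf i))
  · exact Local.isFlatAt_of_iso (Local.opcyclesRestrictIso U.ι P k).symm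
      (Perfect.FlatPerfect.isFlatAt_restrict U.ι y (hU _ (by simp)))

/-- Flat opcycles make `H^k(- ⊗ P)` left exact. -/
theorem leftExact_of_isFlat {P : CochainComplex X.Modules ℤ} (hPf : ∀ i, FlatMod.IsFlat (P.X i))
    (k : ℤ) (h : FlatMod.IsFlat (P.opcycles k)) : PreservesFiniteLimits (TensorExact.HP P k) :=
  (SiteExact.Abstract.preservesFiniteLimits_iff (TensorExact.FP P)
    (MonoFlat.shortExact_map_FP hPf) k).2 fun S hS =>
      haveI := hS.mono_f
      TensorExact.mono_homologyMap P k h S.f

end Groth.Agent.Lib.BettiExact.NhdExact
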