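import Groth.Agent.Lib.DerivedOX.FlatTensor
import Groth.Agent.Lib.DerivedOX.SingleTensor
import Mathlib.Algebra.Homology.HomologySequence
import Mathlib.Algebra.Homology.HomologicalComplexAbelian
import Mathlib.Algebra.Homology.ShortComplex.ExactFunctor

/-!
# Exactness of `M ↦ H^p(M ⊗ P)` when two opcycle modules are flat
-/

set_option autoImplicit false
set_option linter.style.haveILetI false

universe u

open CategoryTheory Limits AlgebraicGeometry HomologicalComplex

namespace Groth.Agent.Lib.BettiExact.TensorExact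

open Groth.Agent.Lib.DerivedOX

variable {X : Scheme.{u}} (P : CochainComplex X.Modules ℤ)

/-- `M ↦ M ⊗ P`, termwise. -/
noncomputable def FP : X.Modules ⥤ CochainComplex X.Modules ℤ where
  obj M := ((DCoh.tensorBi.obj M).mapHomologicalComplex (ComplexShape.up ℤ)).obj P
  map g := (NatTrans.mapHomologicalComplex ((DCoh.tensorBi (X := X)).map g) (ComplexShape.up ℤ)).app P
  map_id M := by
    refine HomologicalComplex.hom_ext _ _ fun i => ?_
    simp
  map_comp f g := by
    refine HomologicalComplex.hom_ext _ _ fun i => ?_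
    simp

instance FP_additive : (FP P).Additive where
  map_add {M N f g} := by
    refine HomologicalComplex.hom_ext _ _ fun i => ?_
    exact congrArg (fun η => η.app (P.X i)) ((DCoh.tensorBi (X := X)).map_add (f := f) (g := g))

/-- `M ↦ H^p(M ⊗ P)`. -/
noncomputable abbrev HP (p : ℤ) : X.Modules ⥤ X.Modules :=
  FP P ⋙ HomologicalComplex.homologyFunctor X.Modules (ComplexShape.up ℤ) p

/-- Monomorphisms stay monomorphisms in `H^k(- ⊗ P)` if `opcycles k` is flat. -/
theorem mono_homologyMap (k : ℤ) (hk : FlatMod.IsFlat (P.opcycles k)) {M N : X.Modules} (g : M ⟶ N)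
    [Mono g] : Mono (HomologicalComplex.homologyMap ((FP P).map g) k) := by
  let T := DCoh.tensorBi (X := X)
  have hp := (ComplexShape.up ℤ).prev_eq' (show (ComplexShape.up ℤ).Rel (k - 1) k by simp)
  haveI : ∀ A, PreservesFiniteColimits (T.obj A) := FlatTensor.preservesFiniteColimits_tensorLeft
  let hc := fun A : X.Modules =>
    CokernelCofork.mapIsColimit _ (P.opcyclesIsCokernel (k - 1) k hp) (T.obj A)
  let e : ∀ A, ((FP P).obj A).opcycles k ≅ (T.obj A).obj (P.opcycles k) := fun A =>
    (((FP P).obj A).opcyclesIsCokernel (k - 1) k hp).coconePointUniqueUpToIso (hc A)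
  have he : ∀ A, ((FP P).obj A).pOpcycles k ≫ (e A).hom = (T.obj A).map (P.pOpcycles k) := fun A =>
    IsColimit.comp_coconePointUniqueUpToIso_hom
      (((FP P).obj A).opcyclesIsCokernel (k - 1) k hp) (hc A) WalkingParallelPair.one
  have sq : HomologicalComplex.opcyclesMap ((FP P).map g) k ≫ (e N).hom =
      (e M).hom ≫ (T.map g).app (P.opcycles k) := by
    rw [← cancel_epi (((FP P).obj M).pOpcycles k), p_opcyclesMap_assoc, he N, ← Category.assoc, he M]
    exact ((T.map g).naturality (P.pOpcycles k)).symm
  haveI : Mono ((T.map g).app (P.opcycles k)) := FlatTensor.mono_flip_map_of_isFlat hk g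
  haveI : Mono (HomologicalComplex.opcyclesMap ((FP P).map g) k) := by
    haveI : Mono (HomologicalComplex.opcyclesMap ((FP P).map g) k ≫ (e N).hom) := by
      rw [sq]; infer_instance
    exact mono_of_mono _ (e N).hom
  haveI : Mono (HomologicalComplex.homologyMap ((FP P).map g) k ≫ ((FP P).obj N).homologyι k) := by
    rw [homologyι_naturality]; infer_instance
  exact mono_of_mono _ (((FP P).obj N).homologyι k)

/-- `H^p(- ⊗ P)` is exact. -/
theorem preserves (hflat : ∀ i, FlatMod.IsFlat (P.X i)) (p : ℤ) (h₀ : FlatMod.IsFlat (P.opcycles p))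
    (h₁ : FlatMod.IsFlat (P.opcycles (p + 1))) :
    PreservesFiniteLimits (HP P p) ∧ PreservesFiniteColimits (HP P p) := by
  refine ((Functor.exact_tfae (HP P p)).out 0 3).1 fun S hS => ?_
  have hSP : (S.map (FP P)).ShortExact := by
    refine HomologicalComplex.shortExact_of_degreewise_shortExact _ fun i => ?_
    haveI := FlatTensor.preservesFiniteLimits_tensorRight_of_isFlat (hflat i)
    haveI : PreservesFiniteColimits ((DCoh.tensorBi (X := X)).flip.obj (P.X i)) :=
      PreservesColimitsOfSize.preservesFiniteColimits _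
    exact hS.map_of_exact ((DCoh.tensorBi (X := X)).flip.obj (P.X i))
  haveI := hS.mono_f
  refine ShortComplex.ShortExact.mk' (hSP.homology_exact₂ p) (mono_homologyMap P p h₀ S.f) ?_
  haveI := mono_homologyMap P (p + 1) h₁ S.f
  refine (hSP.homology_exact₃ p (p + 1) rfl).epi_f ?_
  exact (cancel_mono (HomologicalComplex.homologyMap ((FP P).map S.f) (p + 1))).1
    ((hSP.δ_comp p (p + 1) rfl).trans zero_comp.symm)

/-- `M[0] ⊗ P` is `M ⊗ P` termwise, naturally in `M`. -/
noncomputable def singleIso :
    FP P ≅ HomologicalComplex.single X.Modules (ComplexShape.up ℤ) 0 ⋙ (DCoh.tensorCx (X := X)).flip.obj P :=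
  NatIso.ofComponents (fun M => (SingleTensor.singleZeroIso (DCoh.tensorBi (X := X)) M).app P)
    fun {M N} g => by
      refine HomologicalComplex.hom_ext _ _ fun m => ?_
      change ((DCoh.tensorBi.map g).app (P.X m)) ≫ Bifunctor.singleHom₁ DCoh.tensorBi N 0 P m m (zero_add m) =
        Bifunctor.singleHom₁ DCoh.tensorBi M 0 P m m (zero_add m) ≫
          (mapBifunctorMap ((single X.Modules (ComplexShape.up ℤ) 0).map g) (𝟙 P) DCoh.tensorBi (ComplexShape.up ℤ)).f m
      dsimp only [Bifunctor.singleHom₁]
      rw [Category.assoc, ι_mapBifunctorMap, single_map_f_self, HomologicalComplex.id_f,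
        CategoryTheory.Functor.map_id, Category.id_comp, ← Category.assoc, ← Category.assoc,
        ← NatTrans.comp_app, ← Functor.map_comp, ← NatTrans.comp_app, ← Functor.map_comp,
        Iso.inv_hom_id_assoc]

end Groth.Agent.Lib.BettiExact.TensorExact
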