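import Groth.Agent.Lib.BettiExact.TorProduct
import Groth.Agent.Lib.DerivedOX.Qis
import Groth.Agent.H52.FDesc.BaseChangeFlat

/-!
# Relative flat amplitude and base change
-/

set_option autoImplicit false
set_option linter.style.haveILetI false

universe u

open CategoryTheory Limits AlgebraicGeometry HomologicalComplex

attribute [local instance] HasDerivedCategory.standard

namespace Groth.Agent.Lib.BettiExact.TorRelBC

open Groth.Agent.Lib Groth.Agent.Lib.DR Groth.Agent.Lib.DR.Basic Groth.Agent.Lib.DR.PseudoCoherent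
open Groth.Agent.Lib.DerivedOX Groth.Agent.Lib.Modules StalkModule TorTensor KFlatBaseChange TorPull
open TorBaseChange TorProduct

variable {X Y Y' W : Scheme.{u}} {f : X ⟶ Y} {g : Y' ⟶ Y} {p₀ : W ⟶ X} {q₀ : W ⟶ Y'}

/-- The stalks of a bounded complex of relatively flat modules are K-flat over the base. -/
theorem isKFlat_stalk_of_flatOver (E : CochainComplex X.Modules ℤ) (b : ℤ)
    (hb : ∀ i, b < i → IsZero (E.X i)) (hfl : ∀ i, FlatMod.IsFlatOver f (E.X i)) (x : X) :
    DRing.IsKFlat (Y.presheaf.stalk (f x)) ((resC (f.stalkMap x).hom).obj ((stC x).obj E)) :=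
  DR.KFlat.isKFlat_of_flat _ b
    (fun i hi => (resF (f.stalkMap x).hom).map_isZero ((stalkModFunctor X x).map_isZero (hb i hi)))
    fun i => hfl i x

/-- Pullback along a base change of a flat morphism keeps quasi-isomorphisms of relatively flat complexes. -/
theorem quasiIso_pb (hW : IsPullback p₀ q₀ f g) [Flat f] {P E : CochainComplex X.Modules ℤ}
    (v : P ⟶ E) [QuasiIso v] (hP : DCoh.IsKFlat P) (b : ℤ) (hb : ∀ i, b < i → IsZero (E.X i))
    (hfl : ∀ i, FlatMod.IsFlatOver f (E.X i)) : QuasiIso ((pbC p₀).map v) := by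
  refine (Qis.quasiIso_iff_forall_stalk _).2 fun w => ?_
  haveI : QuasiIso ((stC (p₀ w)).map v) := (Qis.quasiIso_iff_forall_stalk v).1 inferInstance (p₀ w)
  obtain ⟨θ, hθ, hA, -⟩ := StalkTensor.exists_flat_map hW w
  have h := quasiIso_ext_of_indep (f.stalkMap (p₀ w)).hom (StalkTensor.baseMap hW w) θ hθ
    ((stC (p₀ w)).map v)
    (isKFlat_res_of_flat _ (Flat.stalkMap f (p₀ w)) ((KFlatStalk.isKFlat_iff_stalk P).1 hP _))
    (isKFlat_stalk_of_flatOver E b hb hfl _)
  rw [hA] at h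
  exact (quasiIso_iff_of_arrow_mk_iso _ _ (((Functor.mapArrowFunctor _ _).mapIso
    (NatIso.mapHomologicalComplex (PullbackStalk.pullbackStalkIso p₀ w) (ComplexShape.up ℤ))).app
      (Arrow.mk v))).1 h

/-- Relative flat amplitude after base change. -/
theorem hasRelFlatAmplitudeIn_baseChange (hW : IsPullback p₀ q₀ f g) [Flat f] [DCoh.HasLpull p₀]
    {K : DCoh.D X} {a b : ℤ} (hK : DCoh.HasRelFlatAmplitudeIn f a b K)
    (hflat : ∀ M : X.Modules, FlatMod.IsFlatOver f M →
      FlatMod.IsFlatOver q₀ ((Scheme.Modules.pullback p₀).obj M)) :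
    DCoh.HasRelFlatAmplitudeIn q₀ a b ((DCoh.Lpull p₀).obj K) := by
  obtain ⟨E, hE, hfl, ⟨e⟩⟩ := hK
  let P := (DerivedOX.KFlat.res X).obj E
  let v : P ⟶ E := (DerivedOX.KFlat.aug X).app E
  haveI : QuasiIso v := DerivedOX.KFlat.quasiIso_aug E
  have hq := quasiIso_pb hW v (DerivedOX.KFlat.isKFlat_res E) b (fun i hi => hE i (Or.inr hi)) hfl
  obtain ⟨eP⟩ := nonempty_lpull_iso p₀ (DerivedOX.KFlat.isKFlat_res E)
  let i₁ := @asIso _ _ _ _ _ (Localization.inverts DerivedCategory.Q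
    (quasiIso W.Modules (.up ℤ)) ((pbC p₀).map v) hq)
  exact ⟨(pbC p₀).obj E, fun i hi => (Scheme.Modules.pullback p₀).map_isZero (hE i hi),
    fun i => hflat _ (hfl i), ⟨i₁.symm ≪≫ eP.symm ≪≫
      (DCoh.Lpull p₀).mapIso (asIso (DerivedCategory.Q.map v) ≪≫ e)⟩⟩

end Groth.Agent.Lib.BettiExact.TorRelBC
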