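import Groth.Agent.Lib.DR.KFlatAmp
import Groth.Agent.Lib.DR.TensorBdd
import Groth.Agent.Lib.DR.BaseChange
import Groth.Agent.Lib.DerivedOX.KFlatBaseChange

/-!
# Tor amplitude of a tensor product over an intermediate ring
-/

set_option autoImplicit false
set_option linter.style.haveILetI false

universe u

open CategoryTheory Limits HomologicalComplex MonoidalCategory

attribute [local instance] HasDerivedCategory.standard

namespace Groth.Agent.Lib.BettiExact.TorTensor

open Groth.Agent.Lib Groth.Agent.Lib.DR Groth.Agent.Lib.DR.Basic Groth.Agent.Lib.DR.FiniteComplex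
  Groth.Agent.Lib.DR.PseudoCoherent Groth.Agent.Lib.DR.Representative Groth.Agent.Lib.DR.BaseChange Groth.Agent.Lib.DR.TorAmp
open Groth.Agent.Lib.DerivedOX.KFlatBaseChange Groth.Agent.Lib.DerivedOX.BifunctorMap
open Groth.Agent.Lib.DerivedOX.StalkCx (commCx)

variable {A B : Type u} [CommRing A] [CommRing B] (φ : A →+* B)

/-- Restriction of scalars on complexes. -/
noncomputable abbrev resC : DRing.Cx B ⥤ DRing.Cx A :=
  (resF φ).mapHomologicalComplex (ComplexShape.up ℤ)

/-- Extension of scalars on complexes. -/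
noncomputable abbrev extC : DRing.Cx A ⥤ DRing.Cx B :=
  (extF φ).mapHomologicalComplex (ComplexShape.up ℤ)

/-- The projection formula for complexes. -/
noncomputable def projCxIso (M : DRing.Cx B) (L : DRing.Cx A) :
    (resC φ).obj (M ⊗ (extC φ).obj L) ≅ (resC φ).obj M ⊗ L :=
  (resC φ).mapIso (totalIso (extComparison φ) M L) ≪≫ (totalIso (projComparison φ) M L).symm

theorem exactAt_resC_iff (Z : DRing.Cx B) (i : ℤ) : ((resC φ).obj Z).ExactAt i ↔ Z.ExactAt i := by
  rw [exactAt_iff, exactAt_iff, ShortComplex.ShortExact.moduleCat_exact_iff_function_exact,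
    ShortComplex.ShortExact.moduleCat_exact_iff_function_exact]
  rfl

section OneRing

theorem exactAt_congr {C : Type*} [Category C] [Abelian C] {K L : CochainComplex C ℤ} (e : K ≅ L) (i : ℤ) :
    K.ExactAt i ↔ L.ExactAt i :=
  ⟨fun h => h.of_iso e, fun h => h.of_iso e.symm⟩

variable {R : Type u} [CommRing R]

theorem quasiIso_whiskerRight {T : DRing.Cx R} (hT : DRing.IsKFlat R T) {F F' : DRing.Cx R}
    (s : F ⟶ F') [QuasiIso s] : QuasiIso (((KFlat.tcx R).flip.obj T).map s) :=
  KFlat.quasiIso_tensor_of_isKFlat hT s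

/-- Exactness below is inherited by tensor products with bounded flat complexes. -/
theorem exactAt_tensor_below {W T : DRing.Cx R} {c a b : ℤ} (hW : ∀ i, i < c → W.ExactAt i)
    (hT : ∀ i, i < a ∨ b < i → IsZero (T.X i)) (hTf : ∀ i, flat R (T.X i)) (i : ℤ) (hi : i < c + a) :
    (W ⊗ T).ExactAt i := by
  haveI : W.IsGE c := (CochainComplex.isGE_iff W c).2 hW
  haveI : QuasiIso (W.πTruncGE c) := (W.quasiIso_πTruncGE_iff c).2 inferInstance
  have hK : DRing.IsKFlat R T := KFlat.isKFlat_of_flat T b (fun j hj => hT j (Or.inr hj)) hTf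
  haveI := quasiIso_whiskerRight hK (W.πTruncGE c)
  refine (exactAt_iff_of_quasiIsoAt (((KFlat.tcx R).flip.obj T).map (W.πTruncGE c)) i).2 ?_
  exact ExactAt.of_isZero (TensorBdd.isZero_tens_below _ _
    (fun j hj => (W.truncGE c).isZero_of_isStrictlyGE c j hj) (fun j hj => hT j (Or.inl hj)) i hi)

/-- Exactness above is inherited by tensor products with bounded flat complexes. -/
theorem exactAt_tensor_above {W T : DRing.Cx R} {d b : ℤ} (hW : ∀ i, d < i → W.ExactAt i)
    (hT : ∀ i, b < i → IsZero (T.X i)) (hTf : ∀ i, flat R (T.X i)) (i : ℤ) (hi : d + b < i) :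
    (W ⊗ T).ExactAt i := by
  haveI : W.IsLE d := (CochainComplex.isLE_iff W d).2 hW
  haveI : QuasiIso (W.ιTruncLE d) := (W.quasiIso_ιTruncLE_iff d).2 inferInstance
  have hK : DRing.IsKFlat R T := KFlat.isKFlat_of_flat T b hT hTf
  haveI := quasiIso_whiskerRight hK (W.ιTruncLE d)
  refine (exactAt_iff_of_quasiIsoAt (((KFlat.tcx R).flip.obj T).map (W.ιTruncLE d)) i).1 ?_
  exact ExactAt.of_isZero (TensorBdd.isZero_tens_above _ _
    (fun j hj => (W.truncLE d).isZero_of_isStrictlyLE d j hj) hT i hi)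

/-- Tensoring with a module computed on a bounded above flat complex or on a K-flat resolution of the module. -/
theorem exactAt_tens_iff {E X L : DRing.Cx R} {b : ℤ} (hE : ∀ i, b < i → IsZero (E.X i))
    (hEf : ∀ i, flat R (E.X i)) (s : E ⟶ X) [QuasiIso s] (N : ModuleCat.{u} R)
    (hL : DRing.IsKFlat R L) (t : L ⟶ (single (ModuleCat.{u} R) (.up ℤ) 0).obj N) [QuasiIso t] (i : ℤ) :
    ((tens N).obj E).ExactAt i ↔ (X ⊗ L).ExactAt i := by
  haveI h1 : QuasiIso (((KFlat.tcx R).flip.obj L).map s) := KFlat.quasiIso_tensor_of_isKFlat hL s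
  haveI h2 : QuasiIso (((KFlat.tcx R).obj E).map t) :=
    LTensorCx.quasiIso_tensor_left (KFlat.isKFlat_of_flat E b hE hEf) t
  have e3 := exactAt_congr
    ((commCx E ((single (ModuleCat.{u} R) (.up ℤ) 0).obj N)) ≪≫ LTensorCx.singleTensorIso N E) i
  have e1 := exactAt_iff_of_quasiIsoAt (((KFlat.tcx R).flip.obj L).map s) i
  have e2 := exactAt_iff_of_quasiIsoAt (((KFlat.tcx R).obj E).map t) i
  exact (e3.symm.trans e2.symm).trans e1

/-- Tor amplitude from exactness of tensor products with K-flat resolutions of modules. -/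
theorem bdd_flat_of_tensor (X : DRing.Cx R) {a b : ℤ} (hb : ∀ i, b < i → X.ExactAt i)
    (ha : ∀ i, i < a → X.ExactAt i)
    (h : ∀ (N : ModuleCat.{u} R) (L : DRing.Cx R), DRing.IsKFlat R L →
      ∀ (t : L ⟶ (single (ModuleCat.{u} R) (.up ℤ) 0).obj N), QuasiIso t → ∀ i, i < a → (X ⊗ L).ExactAt i) :
    Bdd (flat R) a b (DerivedCategory.Q.obj X) := by
  obtain ⟨E, s, hE, hEp, hs⟩ := Resolve.exists_resolution good_free projective_of_free' (K := X) (b := b) hb
    (fun n G φ _ _ _ _ => exists_free_cover' _)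
  haveI := hs
  have hEf : ∀ i, flat R (E.X i) := fun i => flat_of_free _ (hEp i)
  refine (bdd_flat_of_isGE_tens E hE hEf ?_ fun N => ?_).of_iso (asIso (DerivedCategory.Q.map s))
  · rw [DerivedCategory.isGE_iff]
    intro i hi
    exact ((exactAt_iff_isZero_homology _ _).1 ((exactAt_iff_of_quasiIsoAt s i).2 (ha i hi))).of_iso
      (homologyQIso _ _)
  · rw [DerivedCategory.isGE_iff]
    intro i hi
    refine ((exactAt_iff_isZero_homology _ _).1 ?_).of_iso (homologyQIso _ _)
    let t := (KProjRes.aug R).app ((single (ModuleCat.{u} R) (.up ℤ) 0).obj N)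
    haveI : QuasiIso t := KProjRes.quasiIso_aug R _
    have hL := KFlat.isKFlat_of_isKProjective
      ((KProjRes.res R).obj ((single (ModuleCat.{u} R) (.up ℤ) 0).obj N))
    exact (exactAt_tens_iff hE hEf s N hL t i).2 (h N _ hL t inferInstance i hi)

/-- Tor amplitude makes tensor products with resolutions of modules exact below. -/
theorem exactAt_tensor_of_bdd {X : DRing.Cx R} {a b : ℤ} (h : Bdd (flat R) a b (DerivedCategory.Q.obj X))
    (N : ModuleCat.{u} R) {L : DRing.Cx R} (hL : DRing.IsKFlat R L)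
    (t : L ⟶ (single (ModuleCat.{u} R) (.up ℤ) 0).obj N) [QuasiIso t] (i : ℤ) (hi : i < a) :
    (X ⊗ L).ExactAt i := by
  have hX : ∀ j, b < j → X.ExactAt j := fun j hj => by
    haveI := h.isLE
    exact (exactAt_iff_isZero_homology _ _).2
      ((DerivedCategory.isZero_of_isLE (DerivedCategory.Q.obj X) b j hj).of_iso (homologyQIso _ _).symm)
  obtain ⟨E, s, hE, hEp, hs⟩ := Resolve.exists_resolution good_free projective_of_free' (K := X) (b := b) hX
    (fun n G φ _ _ _ _ => exists_free_cover' _)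
  haveI := hs
  have hEf : ∀ i, flat R (E.X i) := fun i => flat_of_free _ (hEp i)
  exact (exactAt_tens_iff hE hEf s N hL t i).1
    (exactAt_tens_of_bdd N E hE hEf (h.of_iso (asIso (DerivedCategory.Q.map s)).symm) i hi)

theorem exactAt_of_bdd {X : DRing.Cx R} {P : ObjectProperty (ModuleCat.{u} R)} {a b : ℤ}
    (h : Bdd P a b (DerivedCategory.Q.obj X)) (i : ℤ) (hi : i < a ∨ b < i) : X.ExactAt i := by
  rcases hi with hi | hi
  · haveI := h.isGE
    exact (exactAt_iff_isZero_homology _ _).2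
      ((DerivedCategory.isZero_of_isGE (DerivedCategory.Q.obj X) a i hi).of_iso (homologyQIso _ _).symm)
  · haveI := h.isLE
    exact (exactAt_iff_isZero_homology _ _).2
      ((DerivedCategory.isZero_of_isLE (DerivedCategory.Q.obj X) b i hi).of_iso (homologyQIso _ _).symm)

end OneRing

/-- If `P` has tor amplitude in `[c, d]` over `A` and `T` is a complex of flat `B`-modules placed in `[a, b]`,
then `P ⊗_B T` has tor amplitude in `[c + a, d + b]` over `A`. -/
theorem bdd_res_tensor {P T : DRing.Cx B} {a b c d : ℤ} (hT : ∀ i, i < a ∨ b < i → IsZero (T.X i))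
    (hTf : ∀ i, flat B (T.X i)) (hP : Bdd (flat A) c d (DerivedCategory.Q.obj ((resC φ).obj P))) :
    Bdd (flat A) (c + a) (d + b) (DerivedCategory.Q.obj ((resC φ).obj (P ⊗ T))) := by
  have hPe : ∀ i, i < c ∨ d < i → P.ExactAt i := fun i hi =>
    (exactAt_resC_iff φ P i).1 (exactAt_of_bdd hP i hi)
  refine bdd_flat_of_tensor _ (fun i hi => (exactAt_resC_iff φ _ i).2
      (exactAt_tensor_above (fun j hj => hPe j (Or.inr hj)) (fun j hj => hT j (Or.inr hj)) hTf i hi))
    (fun i hi => (exactAt_resC_iff φ _ i).2 (exactAt_tensor_below (fun j hj => hPe j (Or.inl hj)) hT hTf i hi))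
    fun N L hL t ht i hi => ?_
  haveI := ht
  let L' := (extC φ).obj L
  have hW : ∀ j, j < c → (P ⊗ L').ExactAt j := fun j hj =>
    (exactAt_resC_iff φ _ j).1 ((exactAt_congr (projCxIso φ P L) j).2
      (exactAt_tensor_of_bdd hP N hL t j hj))
  have e : (P ⊗ T) ⊗ L' ≅ (P ⊗ L') ⊗ T :=
    α_ P T L' ≪≫ whiskerLeftIso P (commCx T L') ≪≫ (α_ P L' T).symm
  exact (exactAt_congr (projCxIso φ (P ⊗ T) L) i).1 ((exactAt_resC_iff φ _ i).2
    ((exactAt_congr e i).2 (exactAt_tensor_below hW hT hTf i hi)))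

end Groth.Agent.Lib.BettiExact.TorTensor
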